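import Cfsg.Agent.Lib.MinIndexSmall.Main

/-!
Stabilisers of non-singular points and the passage to `PΩ`.
-/

set_option autoImplicit false
set_option linter.unusedSectionVars false

namespace CfsgLib.MinIndexSmall

open QuadraticMap Module CfsgLib.Classical.Quad CfsgLib.MinIndexOrth

variable {F U : Type*} [Field F] [AddCommGroup U] [Module F U]
variable {R : QuadraticForm F U} [Finite F] [Finite U] [FiniteDimensional F U]

/-- The stabiliser of a non-singular vector up to sign. -/
def pmStab (R : QuadraticForm F U) (x : (F × F) × U) : Subgroup (siegelGroup (plane R)) where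
  carrier := {g | g.1.1 x = x ∨ g.1.1 x = -x}
  one_mem' := Or.inl rfl
  mul_mem' := by
    rintro g g' hg hg'
    show (g.1 * g'.1).1 x = x ∨ (g.1 * g'.1).1 x = -x
    rw [mul_apply]
    rcases hg' with h' | h' <;> rw [h'] <;> rcases hg with h | h <;> simp [h]
  inv_mem' := by
    rintro g hg
    show (g.1⁻¹).1 x = x ∨ (g.1⁻¹).1 x = -x
    rcases hg with h | h
    · refine Or.inl ?_
      conv_lhs => rw [← h]
      exact inv_apply_self _ _
    · refine Or.inr ?_
      have h1 : x = -(g.1⁻¹).1 x := by
        conv_lhs => rw [← inv_apply_self g.1 x, h, map_neg]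
      rw [eq_comm, neg_eq_iff_eq_neg]
      exact h1

variable (hnd : NDPolar R) (P : Frame R)

include hnd P

theorem center_le_pmStab (x : (F × F) × U) :
    Subgroup.center (siegelGroup (plane R)) ≤ pmStab R x := fun z hz => by
  rcases (mem_center_siegelGroup_iff (ndPolar_plane hnd) (planeFrame P) z).1 hz with h | h
  · exact Or.inl (h x)
  · exact Or.inr (h x)

open scoped _root_.Classical in
/-- The index of the stabiliser up to sign of a non-singular vector. -/
theorem index_pmStab {x : (F × F) × U} (hx : plane R x ≠ 0) :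
    (pmStab R x).index * (if (2 : F) = 0 then 1 else 2) =
      Nat.card {v : (F × F) × U // plane R v = plane R x} := by
  classical
  set c := plane R x
  let : MulAction (siegelGroup (plane R)) {v : (F × F) × U // plane R v = c} :=
    { smul := fun g v => ⟨g.1.1 v.1, by rw [orth_Q, v.2]⟩
      one_smul := fun _ => rfl
      mul_smul := fun _ _ _ => rfl }
  have hv0 : ∀ v : {v : (F × F) × U // plane R v = c}, v.1 ≠ 0 := fun v h => hx (v.2.symm.trans (by
    rw [h, QuadraticMap.map_zero]))
  have : MulAction.IsPretransitive (siegelGroup (plane R)) {v : (F × F) × U // plane R v = c} := by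
    refine ⟨fun v w => ?_⟩
    obtain ⟨g, hg, hgv⟩ := level_trans (ndPolar_plane hnd) (planeFrame P) (hv0 v) (hv0 w)
      (v.2.trans w.2.symm)
    exact ⟨⟨g, hg⟩, Subtype.ext hgv⟩
  set St := MulAction.stabilizer (siegelGroup (plane R))
    (⟨x, rfl⟩ : {v : (F × F) × U // plane R v = c})
  have hSt : ∀ g, g ∈ St ↔ g.1.1 x = x := fun g =>
    ⟨fun h => congrArg Subtype.val h, fun h => Subtype.ext h⟩
  rw [← MulAction.index_stabilizer_of_transitive (siegelGroup (plane R))
    (⟨x, rfl⟩ : {v : (F × F) × U // plane R v = c})]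
  change _ = St.index
  by_cases h2 : (2 : F) = 0
  · rw [if_pos h2, mul_one]
    congr 1
    ext g
    rw [hSt]
    have hn : -x = x := by
      have : (2 : F) • x = 0 := by rw [h2, zero_smul]
      rw [two_smul] at this
      exact (eq_neg_of_add_eq_zero_left this).symm
    show (g.1.1 x = x ∨ g.1.1 x = -x) ↔ _
    rw [hn, or_self]
  · rw [if_neg h2, mul_comm]
    have hne : x ≠ -x := fun h => hv0 ⟨x, rfl⟩ (by
      have h1 : (2 : F) • x = 0 := by rw [two_smul]; nth_rewrite 2 [h]; exact add_neg_cancel x
      exact (smul_eq_zero.1 h1).resolve_left h2)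
    have hle : St ≤ pmStab R x := fun g hg => Or.inl ((hSt g).1 hg)
    rw [← Subgroup.relIndex_mul_index hle]
    congr 1
    obtain ⟨a, ha⟩ := MulAction.exists_smul_eq (siegelGroup (plane R))
      (⟨x, rfl⟩ : {v : (F × F) × U // plane R v = c}) ⟨-x, by rw [QuadraticMap.map_neg]⟩
    have ha' : a.1.1 x = -x := congrArg Subtype.val ha
    symm
    rw [Subgroup.relIndex, Subgroup.index_eq_two_iff]
    refine ⟨⟨a, Or.inr ha'⟩, fun b => ?_⟩
    simp only [Subgroup.mem_subgroupOf, hSt]
    have key : (b * ⟨a, Or.inr ha'⟩ : pmStab R x).1.1.1 x = -(b.1.1.1 x) := by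
      show b.1.1.1 (a.1.1 x) = _
      rw [ha', map_neg]
    rcases b.2 with h | h
    · exact Or.inr ⟨h, by rw [key, h]; exact hne.symm⟩
    · refine Or.inl ⟨by rw [key, h, neg_neg], ?_⟩
      rw [h]
      exact hne.symm

omit hnd P in
/-- The minimal index of a proper subgroup of `PΩ(V)`. -/
theorem pomega_min_index {B : ℕ} {ι : Type} [Fintype ι] [DecidableEq ι] {Qf : (ι → F) → F}
    (H : Hyp R B) (hz : Twist R) (e : (ι → F) ≃ₗ[F] (F × F) × U) (he : ∀ v, plane R (e v) = Qf v)
    (K₀ : Subgroup (siegelGroup (plane R)))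
    (hc : Subgroup.center (siegelGroup (plane R)) ≤ K₀) (hK₀ : K₀.index = B) :
    (∀ K : Subgroup (Cfsg.POmega F Qf), K ≠ ⊤ → B ≤ K.index) ∧
      ∃ K : Subgroup (Cfsg.POmega F Qf), K.index = B := by
  set φ := pomegaEquiv e he (ndPolar_plane H.hnd) (planeFrame H.P)
  let π : siegelGroup (plane R) →* Cfsg.POmega F Qf :=
    φ.symm.toMonoidHom.comp (QuotientGroup.mk' (Subgroup.center (siegelGroup (plane R))))
  have hs : Function.Surjective π := φ.symm.surjective.comp (QuotientGroup.mk'_surjective _)
  have hker : π.ker = Subgroup.center (siegelGroup (plane R)) := by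
    ext g
    rw [MonoidHom.mem_ker]
    show φ.symm (QuotientGroup.mk' _ g) = 1 ↔ _
    rw [MulEquiv.map_eq_one_iff, QuotientGroup.mk'_apply, QuotientGroup.eq_one_iff]
  refine ⟨fun K hK => ?_, K₀.map π, ?_⟩
  · rw [← Subgroup.index_comap_of_surjective K hs]
    refine index_ge H hz fun h => hK ?_
    rw [← Subgroup.map_comap_eq_self_of_surjective hs K, h,
      Subgroup.map_top_of_surjective _ hs]
  · rw [Subgroup.index_map_eq _ hs (hker ▸ hc), hK₀]

end CfsgLib.MinIndexSmall
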