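import Cfsg.Agent.Lib.MinIndexOrth.Class

/-!
The minimal index of the orthogonal groups over the fields with two and three elements, where it is
smaller than the number of singular points: hypotheses and basic counts.
-/

set_option autoImplicit false
set_option linter.unusedSectionVars false

namespace CfsgLib.MinIndexSmall

open QuadraticMap Module CfsgLib.Classical.Quad CfsgLib.MinIndexOrth

variable {F U : Type*} [Field F] [AddCommGroup U] [Module F U]

/-- The non-zero vectors of a value. -/
def lev (R : QuadraticForm F U) (c : F) : Set U := {v | v ≠ 0 ∧ R v = c}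

/-- The hypotheses for the bound `B`. -/
structure Hyp (R : QuadraticForm F U) (B : ℕ) where
  hnd : NDPolar R
  P : Frame R
  n : ℕ
  two_le_n : 2 ≤ n
  p : ℕ
  hp : Nat.card F = p
  hp23 : p = 2 ∨ p = 3
  hN : n + 3 ≤ finrank F U
  hidx : ∀ W : Submodule F U, (∀ x ∈ W, R x = 0) → finrank F W ≤ n
  hBQN : ∀ c, B * (p - 1) ≤ (p - 1) * p ^ finrank F U + p * Nat.card (lev R c)
  hB2 : B ≤ 2 * p ^ finrank F U
  hpair : ∀ c d, c ≠ d → B ≤ p * (Nat.card (lev R c) + Nat.card (lev R d))
  h2 : p = 2 → 6 ≤ finrank F U ∧ 3 * B ≤ 16 * Nat.card (lev R 1)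
  hX : ∀ X, X + p + p ^ (finrank F U - 1) = Nat.card (lev R 0) + 1 + p ^ (finrank F U - 2) →
    B * ((p ^ n - 1) * (p ^ n - p)) ≤ Nat.card (lev R 0) * X * p ^ n

namespace Hyp

variable [Finite F] [Finite U] [FiniteDimensional F U] {R : QuadraticForm F U} {B : ℕ}
variable (H : Hyp R B)

include H

theorem two_le_p : 2 ≤ H.p := by
  rcases H.hp23 with h | h <;> omega

theorem five_le : 5 ≤ finrank F U := by
  have := H.hN; have := H.two_le_n; omega

theorem prime : H.p.Prime := by
  rcases H.hp23 with h | h <;> rw [h] <;> norm_num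

theorem cast_p : (H.p : F) = 0 := by
  cases nonempty_fintype F
  rw [← H.hp, Nat.card_eq_fintype_card]
  exact FiniteField.cast_card_eq_zero F

theorem two_elems (h : H.p = 2) : ∀ c : F, c = 0 ∨ c = 1 := by
  classical
  cases nonempty_fintype F
  intro c
  have h1 : (Finset.univ : Finset F) = {0, 1} := by
    refine (Finset.eq_of_subset_of_card_le (Finset.subset_univ _) ?_).symm
    rw [Finset.card_pair (zero_ne_one : (0 : F) ≠ 1), Finset.card_univ, ← Nat.card_eq_fintype_card,
      H.hp, h]
  have h := Finset.mem_univ c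
  rw [h1] at h
  simpa using h

theorem card_univ : Nat.card U = H.p ^ finrank F U := by
  rw [← H.hp, card_univ_eq (F := F)]

theorem B_lt_pts : B < Nat.card (Pts R) := by
  have h := MinIndexOrth.Hyp.card_pts_sub (R := R)
  have h0 := H.hBQN 0
  have hp := H.two_le_p
  rw [H.hp] at h
  have e : Nat.card (sing R) = Nat.card (lev R 0) := rfl
  rw [e] at h
  refine Nat.lt_of_mul_lt_mul_right (a := H.p - 1) ?_
  omega

theorem card_ts_le {s : Set U} (h1 : ∀ x ∈ s, R x = 0)
    (h2 : ∀ x ∈ s, ∀ y ∈ s, polar R x y = 0) :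
    Nat.card (Submodule.span F s) ≤ H.p ^ H.n := by
  rw [Module.natCard_eq_pow_finrank (K := F), H.hp]
  exact Nat.pow_le_pow_right (by have := H.two_le_p; omega) (H.hidx _ (singular_span h1 h2))

theorem card_line_le {A : AddSubgroup U} {w : U} (h : ∀ x ∈ A, ∃ c : F, x = c • w) :
    Nat.card A ≤ H.p := by
  choose f hf using h
  rw [← H.hp]
  refine Nat.card_le_card_of_injective (fun x : A => f x.1 x.2) fun x y e => Subtype.ext ?_
  rw [hf x.1 x.2, hf y.1 y.2]
  exact congrArg (· • w) e

end Hyp

variable {R : QuadraticForm F U} {B : ℕ} [Finite F] [Finite U] [FiniteDimensional F U]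
variable {Ω : Type*} [MulAction (siegelGroup (plane R)) Ω] [Finite Ω]
variable (H : Hyp R B) (χ : AddChar F ℂ) (hχ : χ ≠ 1) (hlt : Nat.card Ω < B)

/-- The number of orbits whose annihilator contains `v`. -/
noncomputable def mult (R : QuadraticForm F U) (Ω : Type*)
    [MulAction (siegelGroup (plane R)) Ω] [Finite Ω] (χ : AddChar F ℂ) (v : U) : ℕ :=
  (orbsWith (R := R) (Ω := Ω) χ v).card

include H

theorem mult_level {a v : U} (ha : a ≠ 0) (hv : v ≠ 0) (h : R a = R v) :
    mult R Ω χ v = mult R Ω χ a := by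
  obtain ⟨g, hg, rfl⟩ := level_trans H.hnd H.P ha hv h
  have := card_orbsWith_mkLev (Ω := Ω) χ 1 g (by rw [levO_one]; exact liftO_mem hg) a
  rwa [inv_one, Units.val_one, one_smul] at this

include hχ hlt

/-- Two values cannot both be covered `p` times. -/
theorem not_two_values {a b : U} (ha : a ≠ 0) (hb : b ≠ 0) (hne : R a ≠ R b)
    (hma : H.p ≤ mult R Ω χ a) (hmb : H.p ≤ mult R Ω χ b) : False := by
  classical
  have h := le_card_of_cover (Ω := Ω) H.hnd χ hχ Finset.univ (lev R (R a) ∪ lev R (R b)) H.p 1 1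
    (fun v hv => ?_) fun o _ => by
      rw [mul_one, mul_one]
      exact Nat.card_le_card_of_injective (fun v => (⟨v.1, v.2.2⟩ : oA χ o))
        fun v w h => Subtype.ext (congrArg Subtype.val h :)
  · rw [← card_eq_sum H.hnd χ hχ, mul_one, mul_one] at h
    have e : Nat.card (lev R (R a) ∪ lev R (R b) : Set U) =
        Nat.card (lev R (R a)) + Nat.card (lev R (R b)) := by
      simp only [Nat.card_coe_set_eq]
      exact Set.ncard_union_eq (Set.disjoint_left.2 fun v h1 h2 => hne (h1.2.symm.trans h2.2))
    rw [e] at h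
    have := H.hpair _ _ hne
    omega
  · show H.p ≤ mult R Ω χ v
    rcases hv with ⟨hv0, hv⟩ | ⟨hv0, hv⟩
    · rw [mult_level H χ ha hv0 hv.symm]; exact hma
    · rw [mult_level H χ hb hv0 hv.symm]; exact hmb

omit hlt hχ

theorem siegel_pow {u b : U} (hu : R u = 0) (hb : polar R u b = 0) (i : ℕ) :
    siegel R u b hu hb ^ i =
      siegel R u ((i : F) • b) hu (by rw [polar_smul_right, hb, smul_zero]) := by
  induction i with
  | zero =>
    rw [pow_zero, ← siegel_zero (Q := R) hu]
    exact siegel_congr _ _ _ _ rfl (by simp)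
  | succ i ih =>
    rw [pow_succ, ih, siegel_mul]
    exact siegel_congr _ _ _ _ rfl (by push_cast; module)

/-- A root element fixing a vector of small multiplicity fixes its orbits. -/
theorem siegel_fix_orbs {a : U} (hm : mult R Ω χ a < H.p) {o : Orb R Ω} (ho : a ∈ oA χ o)
    {u b : U} (hu : R u = 0) (hub : polar R u b = 0) (hua : polar R u a = 0)
    (hba : polar R b a = 0) :
    mkL R (siegel_mem (Q := R) hu hub) • o = o := by
  classical
  set k := mkL R (siegel_mem (Q := R) hu hub)
  have hkp : k ^ H.p = 1 := by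
    have hs : siegel R u b hu hub ^ H.p = 1 := by
      rw [siegel_pow H, ← siegel_zero (Q := R) hu]
      exact siegel_congr _ _ _ _ rfl (by rw [H.cast_p, zero_smul])
    refine Subtype.ext (Subtype.ext ?_)
    simp only [SubmonoidClass.coe_pow, OneMemClass.coe_one]
    rw [mkL_coe, ← map_pow, hs, map_one]
  have hinv : ∀ i : ℕ, k ^ i • o ∈ orbsWith (R := R) (Ω := Ω) χ a := by
    intro i
    induction i with
    | zero => rw [pow_zero, one_smul, mem_orbsWith]; exact ho
    | succ i ih =>
      rw [pow_succ', mul_smul, mem_orbsWith]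
      rw [mem_orbsWith] at ih
      have h := (oA_mkL χ (siegel_mem (Q := R) hu hub) (k ^ i • o) a).2 ih
      rwa [siegel_fix hu hub (by rw [polar_comm]; exact hua) (by rw [polar_comm]; exact hba)] at h
  have hdvd : MulAction.period k o ∣ H.p :=
    MulAction.pow_smul_eq_iff_period_dvd.1 (by rw [hkp, one_smul])
  rcases H.prime.eq_one_or_self_of_dvd _ hdvd with h1 | h1
  · have h := MulAction.pow_period_smul k o
    rwa [h1, pow_one] at h
  · exfalso
    have hinj : Function.Injective fun i : Fin H.p =>
        (⟨k ^ (i : ℕ) • o, hinv i⟩ : orbsWith (R := R) (Ω := Ω) χ a) := by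
      have key : ∀ i j : Fin H.p, (i : ℕ) ≤ j → k ^ (i : ℕ) • o = k ^ (j : ℕ) • o → i = j := by
        intro i j hij e
        have e' : k ^ ((j : ℕ) - i) • o = o := by
          refine smul_left_cancel (k ^ (i : ℕ)) ?_
          rw [← mul_smul, ← pow_add, Nat.add_sub_cancel' hij, ← e]
        have := MulAction.pow_smul_eq_iff_period_dvd.1 e'
        rw [h1] at this
        have h2 := Nat.eq_zero_of_dvd_of_lt this (by omega)
        exact Fin.ext (by omega)
      intro i j e
      rcases le_total (i : ℕ) j with h | h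
      · exact key i j h (congrArg Subtype.val e)
      · exact (key j i h (congrArg Subtype.val e).symm).symm
    have h3 := Nat.card_le_card_of_injective _ hinj
    rw [Nat.card_fin, Nat.card_eq_fintype_card, Fintype.card_coe] at h3
    exact absurd h3 (not_le.2 hm)

end CfsgLib.MinIndexSmall
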