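import Cfsg.Agent.Lib.MinIndexSmall.Basic

/-!
An annihilator is everything or lies in a line.
-/

set_option autoImplicit false
set_option linter.unusedSectionVars false

namespace CfsgLib.MinIndexSmall

open QuadraticMap Module CfsgLib.Classical.Quad CfsgLib.MinIndexOrth

variable {F U : Type*} [Field F] [AddCommGroup U] [Module F U]
variable {R : QuadraticForm F U} {B : ℕ} [Finite F] [Finite U] [FiniteDimensional F U]
variable {Ω : Type*} [MulAction (siegelGroup (plane R)) Ω] [Finite Ω]
variable (H : Hyp R B) (χ : AddChar F ℂ) (hχ : χ ≠ 1) (hlt : Nat.card Ω < B)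

include H

/-- An annihilator with a vector of small multiplicity and an independent one contains the
orthogonal space of the first. -/
theorem perp_subset {a y : U} (ha0 : a ≠ 0) (hm : mult R Ω χ a < H.p) {o : Orb R Ω}
    (hao : a ∈ oA χ o) (hyA : y ∈ oA χ o) (hy : ∀ c : F, y ≠ c • a) :
    ∀ w, polar R w a = 0 → w ∈ oA χ o := by
  have hinv : ∀ {u b x : U} (hu : R u = 0) (hub : polar R u b = 0), polar R u a = 0 →
      polar R b a = 0 → x ∈ oA χ o → (siegel R u b hu hub).1 x ∈ oA χ o := by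
    intro u b x hu hub hua hba hx
    have := (oA_mkL χ (siegel_mem (Q := R) hu hub) o x).2 hx
    rwa [siegel_fix_orbs H χ hm hao hu hub hua hba] at this
  have h5 := H.five_le
  have step : ∀ {x u : U}, x ∈ oA χ o → R u = 0 → polar R u a = 0 → polar R x u ≠ 0 →
      ∀ w, polar R w u = 0 → polar R w a = 0 → w ∈ oA χ o := by
    intro x u hx hu hua hxu
    set φ := polar R x u
    let g : U → U := fun b => φ • b + (-(polar R x b) - R b * φ) • u
    have hg : ∀ b, polar R b u = 0 → polar R b a = 0 → g b ∈ oA χ o := by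
      intro b hbu hba
      have hub : polar R u b = 0 := by rw [polar_comm]; exact hbu
      have h := sub_mem (hinv hu hub hua hba hx) hx
      convert h using 1
      rw [siegel_apply]
      simp only [g]
      module
    obtain ⟨b₁, hb₁u, hb₁a, b₂, hb₂u, hb₂a, hb12⟩ : ∃ b₁, polar R b₁ u = 0 ∧ polar R b₁ a = 0 ∧
        ∃ b₂, polar R b₂ u = 0 ∧ polar R b₂ a = 0 ∧ polar R b₁ b₂ ≠ 0 := by
      by_contra hno
      push Not at hno
      let Φ : U →ₗ[F] F × F := ((polarBilin R).flip u).prod ((polarBilin R).flip a)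
      have hΦ : ∀ b, b ∈ LinearMap.ker Φ ↔ polar R b u = 0 ∧ polar R b a = 0 := fun b => by
        simp [Φ]
      let Ψ : U →ₗ[F] (LinearMap.ker Φ →ₗ[F] F) :=
        (LinearMap.lcomp F F (LinearMap.ker Φ).subtype).comp (polarBilin R)
      have hsurj : LinearMap.range Ψ = ⊤ := by
        refine LinearMap.range_eq_top.2 fun φ => ?_
        obtain ⟨g, hg⟩ := LinearMap.exists_extend φ
        obtain ⟨z, hz⟩ := exists_polar H.hnd g
        exact ⟨z, LinearMap.ext fun b => by rw [← hg]; exact hz _⟩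
      have hle : LinearMap.ker Φ ≤ LinearMap.ker Ψ := fun b hb => LinearMap.ext fun b' =>
        hno b ((hΦ b).1 hb).1 ((hΦ b).1 hb).2 b'.1 ((hΦ b'.1).1 b'.2).1 ((hΦ b'.1).1 b'.2).2
      have h1 := LinearMap.finrank_range_add_finrank_ker Ψ
      rw [hsurj, finrank_top, Subspace.dual_finrank_eq] at h1
      have h2 := Submodule.finrank_mono hle
      have h := LinearMap.finrank_range_add_finrank_ker Φ
      have h3 := Submodule.finrank_le (LinearMap.range Φ)
      rw [Module.finrank_prod, finrank_self] at h3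
      omega
    have hFu : ∀ c : F, c • u ∈ oA χ o := by
      intro c
      set t := -c / (φ * polar R b₁ b₂)
      have h1 := hg (t • b₁ + b₂) (by simp [hb₁u, hb₂u]) (by simp [hb₁a, hb₂a])
      have h2 := hg (t • b₁) (by simp [hb₁u]) (by simp [hb₁a])
      have h3 := hg b₂ hb₂u hb₂a
      convert sub_mem h1 (add_mem h2 h3) using 1
      simp only [g, polar_add_right, polar_smul_right, QuadraticMap.map_smul, smul_eq_mul,
        QuadraticMap.map_add R, polar_smul_left]
      have hφ : polar R x u ≠ 0 := hxu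
      match_scalars <;> simp only [φ, t] <;> field_simp <;> ring
    intro w hwu hwa
    have h1 := hg (φ⁻¹ • w) (by simp [hwu]) (by simp [hwa])
    have h2 := sub_mem h1 (hFu (-(polar R x (φ⁻¹ • w)) - R (φ⁻¹ • w) * φ))
    convert h2 using 1
    simp only [g]
    rw [add_sub_cancel_right, smul_smul, mul_inv_cancel₀ hxu, one_smul]
  obtain ⟨u₀, -, hu₀, hu₀a, hu₀i⟩ := exists_singular_perp H.hnd H.P ha0
  obtain ⟨u, hu, hua, huy, hui⟩ : ∃ u, R u = 0 ∧ polar R u a = 0 ∧ polar R u y ≠ 0 ∧
      ∀ c : F, c • a ≠ u := by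
    by_cases h0 : polar R u₀ y = 0
    · obtain ⟨b, hb, hba, hby⟩ := exists_singular_sep H.hnd ha0 hu₀ hu₀a hu₀i hy
      by_cases hbi : ∀ c : F, c • a ≠ b
      · exact ⟨b, hb, hba, hby, hbi⟩
      · push Not at hbi
        obtain ⟨c, rfl⟩ := hbi
        refine ⟨c • a + u₀, ?_, by rw [polar_add_left, hba, hu₀a, add_zero],
          by rw [polar_add_left, h0, add_zero]; exact hby, fun d hd => hu₀i (d - c) ?_⟩
        · rw [QuadraticMap.map_add R, hb, hu₀, polar_smul_left, polar_comm R a u₀, hu₀a, smul_zero]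
          simp
        · rw [sub_smul, hd]
          abel
    · exact ⟨u₀, hu₀, hu₀a, h0, hu₀i⟩
  have hs1 := step hyA hu hua (by rw [polar_comm]; exact huy)
  have huo : u ∈ oA χ o := hs1 u (polar_singular_self hu) hua
  obtain ⟨c₀, hc1, hc2⟩ := exists_polar_pair H.hnd (not_smul_eq_of_indep ha0 hui) 1 0
  obtain ⟨k1, k2, k3⟩ := sub_smul_singular hu hc1
  set c := c₀ + (-(R c₀)) • u
  have hca : polar R c a = 0 := by
    rw [polar_comm, k3 a (by rw [polar_comm]; exact hua), hc2]
  have hs2 := step huo k1 hca (by rw [k2]; exact one_ne_zero)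
  intro w hwa
  have h1 := hs1 (w - polar R w u • c)
    (by rw [polar_sub_left, polar_smul_left, polar_comm R c u, k2]; simp)
    (by rw [polar_sub_left, polar_smul_left, hwa, hca]; simp)
  have h2 := hs2 (polar R w u • c) (by simp [polar_singular_self k1]) (by simp [hca])
  simpa using add_mem h1 h2

/-- An annihilator with a vector of small multiplicity lies in its line or is everything. -/
theorem eq_top_of_small {a y : U} (ha0 : a ≠ 0) (hm : mult R Ω χ a < H.p) {o : Orb R Ω}
    (hao : a ∈ oA χ o) (hyA : y ∈ oA χ o) (hy : ∀ c : F, y ≠ c • a) : oA χ o = ⊤ := by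
  have hperp := perp_subset H χ ha0 hm hao hyA hy
  obtain ⟨u, hu0, hu, hua, hui⟩ := exists_singular_perp H.hnd H.P ha0
  obtain ⟨c, hc1, hc2⟩ := exists_polar_pair H.hnd (not_smul_eq_of_indep ha0 hui) 1 0
  have hv0 : a + u ≠ 0 := fun e => hui (-1) (by rw [neg_one_smul, ← eq_neg_of_add_eq_zero_right e])
  have hvR : R (a + u) = R a := by
    rw [QuadraticMap.map_add R, hu, polar_comm R a u, hua, add_zero, add_zero]
  have huA := hperp u hua
  have hperp' := perp_subset H χ hv0 (by rw [mult_level H χ ha0 hv0 hvR.symm]; exact hm)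
    (add_mem hao huA) huA fun d hd => by
      by_cases hd1 : 1 - d = 0
      · rw [← sub_eq_zero.1 hd1, one_smul, right_eq_add] at hd
        exact ha0 hd
      · refine hui ((1 - d)⁻¹ * d) ?_
        have e : (1 - d) • u = d • a := by
          rw [sub_smul, one_smul]
          nth_rewrite 1 [hd]
          rw [smul_add, add_sub_cancel_right]
        rw [mul_smul, ← e, smul_smul, inv_mul_cancel₀ hd1, one_smul]
  refine eq_top_iff.2 fun w _ => ?_
  set t := polar R w (a + u)
  have hct : polar R c (a + u) = 1 := by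
    rw [polar_add_right, polar_comm R c a, hc2, polar_comm R c u, hc1, zero_add]
  have h1 := hperp' (w - t • c) (by
    rw [polar_sub_left, polar_smul_left, hct, smul_eq_mul, mul_one, sub_self])
  have h2 := hperp (t • c) (by rw [polar_smul_left, polar_comm, hc2, smul_zero])
  simpa using add_mem h1 h2

include hχ hlt

/-- A non-collinear totally singular annihilator is impossible. -/
theorem singular_class {o : Orb R Ω} (ho : ∀ x ∈ oA χ o, R x = 0) :
    ∃ w : U, ∀ x ∈ oA χ o, ∃ c : F, x = c • w := by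
  classical
  cases nonempty_fintype U
  by_contra hcon
  push Not at hcon
  obtain ⟨w₀, hw₀, hw₀0⟩ : ∃ x ∈ oA χ o, x ≠ 0 := by
    obtain ⟨x, hx, hxi⟩ := hcon 0
    exact ⟨x, hx, fun e => hxi 0 (by rw [e, zero_smul])⟩
  obtain ⟨y₀, hy₀, hy₀i⟩ := hcon w₀
  have hp2 := H.two_le_p
  have hn := H.two_le_n
  have h5 := H.five_le
  let s : Finset (Orb R Ω) := Finset.univ.filter fun o' => ∀ x ∈ oA χ o', R x = 0
  have hts : ∀ o' ∈ s, ∀ x ∈ oA χ o', ∀ y ∈ oA χ o', polar R x y = 0 := fun o' ho' x hx y hy =>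
    polar_eq_zero_of_singular ((Finset.mem_filter.1 ho').2 x hx) ((Finset.mem_filter.1 ho').2 y hy)
      ((Finset.mem_filter.1 ho').2 _ (add_mem hx hy))
  have hspan : ∀ o' ∈ s, Nat.card (Submodule.span F (oA χ o' : Set U)) ≤ H.p ^ H.n := fun o' ho' =>
    H.card_ts_le (fun x hx => (Finset.mem_filter.1 ho').2 x hx) (hts o' ho')
  set d := H.p ^ H.n - H.p with hd
  have hd0 : 0 < d := by
    have : H.p ^ 1 < H.p ^ H.n := Nat.pow_lt_pow_right (by omega) (by omega)
    rw [pow_one] at this
    omega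
  set X := Nat.card (sideSet R H.P.e₁) with hXdef
  have he₁ : H.P.e₁ ∈ lev R 0 := ⟨H.P.pair₁.left_ne_zero, H.P.pair₁.1⟩
  have hXeq : ∀ w ∈ lev R 0, Nat.card (sideSet R w) + H.p + H.p ^ (finrank F U - 1) =
      Nat.card (lev R 0) + 1 + H.p ^ (finrank F U - 2) := by
    intro w hw
    rw [← H.hp, card_sideSet H.hnd hw.1 hw.2 (by omega), MinIndexOrth.Hyp.card_zeros_eq]
    rfl
  have hcov : ∀ w ∈ lev R 0, X ≤ (s.filter fun o' => w ∈ oA χ o').card * d := by
    intro w hw
    have hX : X = Nat.card (sideSet R w) := by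
      have h1 := hXeq w hw
      have h2 := hXeq _ he₁
      omega
    let K : Orb R Ω → Finset U := fun o' => Finset.univ.filter fun v =>
      v ∈ Submodule.span F (oA χ o' : Set U) ∧ ¬ v ∈ F ∙ w
    let Sd : Finset U := Finset.univ.filter fun v => R v = 0 ∧ polar R v w = 0 ∧ ∀ c : F, c • w ≠ v
    have hSd : Sd.card = X := by
      rw [hX, Nat.card_eq_fintype_card, Fintype.card_subtype]
    rw [← hSd]
    refine (Finset.card_le_card (t := (s.filter fun o' => w ∈ oA χ o').biUnion K) ?_).trans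
      (Finset.card_biUnion_le_card_mul _ _ _ fun o' ho' => ?_)
    · intro v hv
      obtain ⟨-, hv1, hv2, hv3⟩ := Finset.mem_filter.1 hv
      obtain ⟨h, hh, hhw, hhy⟩ := pair_cover H.hnd H.P H.hidx H.hN hw₀0 (ho _ hw₀) (ho _ hy₀)
        (polar_eq_zero_of_singular (ho _ hw₀) (ho _ hy₀) (ho _ (add_mem hw₀ hy₀)))
        (fun c hc => hy₀i c hc.symm) hw.1 hw.2 hv1 (by rw [polar_comm]; exact hv2) hv3
      have hwo : w ∈ oA χ (mkL R hh • o) := hhw ▸ (oA_mkL χ hh o w₀).2 hw₀
      refine Finset.mem_biUnion.2 ⟨mkL R hh • o, Finset.mem_filter.2 ⟨Finset.mem_filter.2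
        ⟨Finset.mem_univ _, fun x hx => ?_⟩, hwo⟩, Finset.mem_filter.2 ⟨Finset.mem_univ _, ?_,
        fun hm => ?_⟩⟩
      · rw [← self_apply_inv h x, oA_mkL] at hx
        rw [← self_apply_inv h x, orth_Q]
        exact ho _ hx
      · have h1 : h.1 y₀ ∈ Submodule.span F (oA χ (mkL R hh • o) : Set U) :=
          Submodule.subset_span ((oA_mkL χ hh o y₀).2 hy₀)
        have h2 : w ∈ Submodule.span F (oA χ (mkL R hh • o) : Set U) :=
          Submodule.subset_span hwo
        obtain ⟨α, β, hαβ⟩ := Submodule.mem_span_pair.1 hhy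
        have hβ : β ≠ 0 := by
          rintro rfl
          rw [zero_smul, add_zero, ← hhw, ← map_smul] at hαβ
          exact hy₀i α (h.1.injective hαβ).symm
        have e : v = β⁻¹ • h.1 y₀ - (β⁻¹ * α) • w := by
          rw [← hαβ, smul_add, smul_smul, smul_smul, inv_mul_cancel₀ hβ]
          module
        rw [e]
        exact sub_mem (Submodule.smul_mem _ _ h1) (Submodule.smul_mem _ _ h2)
      · obtain ⟨c, hc⟩ := Submodule.mem_span_singleton.1 hm
        exact hv3 c hc
    · obtain ⟨ho's, hwo'⟩ := Finset.mem_filter.1 ho'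
      refine Nat.le_sub_of_add_le (le_trans ?_ (hspan o' ho's))
      have e1 : Nat.card (Submodule.span F (oA χ o' : Set U)) =
          Nat.card {v : U // v ∈ Submodule.span F (oA χ o' : Set U) ∧ v ∈ F ∙ w} +
          Nat.card {v : U // v ∈ Submodule.span F (oA χ o' : Set U) ∧ ¬ v ∈ F ∙ w} :=
        card_split (fun v => v ∈ Submodule.span F (oA χ o' : Set U)) (fun v => v ∈ F ∙ w)
      have e2 : Nat.card {v : U // v ∈ Submodule.span F (oA χ o' : Set U) ∧ ¬ v ∈ F ∙ w} =
          (K o').card := by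
        rw [Nat.card_eq_fintype_card, Fintype.card_subtype]
      have e3 : H.p ≤ Nat.card {v : U // v ∈ Submodule.span F (oA χ o' : Set U) ∧ v ∈ F ∙ w} := by
        rw [← H.hp]
        refine Nat.card_le_card_of_injective (fun c : F => ⟨c • w,
          Submodule.smul_mem _ c (Submodule.subset_span hwo'),
          Submodule.smul_mem _ c (Submodule.mem_span_singleton_self _)⟩) fun c c' e => ?_
        exact smul_left_injective F hw.1 (congrArg Subtype.val e)
      rw [e1, e2]
      omega
  -- the least multiplicity compatible with the pairs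
  have hex : ∃ k, X ≤ k * d := ⟨X, Nat.le_mul_of_pos_right _ hd0⟩
  set m := Nat.find hex
  have hmX : X ≤ m * d := Nat.find_spec hex
  set Q := H.p ^ H.n
  have h := le_card_of_cover (Ω := Ω) H.hnd χ hχ s (lev R 0) m Q (Q - 1)
    (fun w hw => Nat.find_le (hcov w hw)) fun o' ho' => by
      have hA : Nat.card (oA χ o') ≤ Q := le_trans (Nat.card_le_card_of_injective
        (fun x => (⟨x.1, Submodule.subset_span x.2⟩ : Submodule.span F (oA χ o' : Set U)))
        fun _ _ h => Subtype.ext (congrArg Subtype.val h :)) (hspan o' ho')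
      have h1 : Nat.card {v : U // v ∈ lev R 0 ∧ v ∈ oA χ o'} < Nat.card (oA χ o') := by
        have hsp := card_split (fun v : U => v ∈ oA χ o') (fun v => v ∈ lev R 0)
        have hpos : 0 < Nat.card {v : U // v ∈ oA χ o' ∧ ¬ v ∈ lev R 0} :=
          Nat.card_pos_iff.2 ⟨⟨⟨0, zero_mem _, fun h => h.1 rfl⟩⟩, inferInstance⟩
        rw [Nat.card_congr (Equiv.subtypeEquivRight fun v =>
          (and_comm : v ∈ lev R 0 ∧ v ∈ oA χ o' ↔ _))]
        show _ < Nat.card {v : U // v ∈ oA χ o'}
        omega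
      have h2 := Nat.mul_le_mul_right Q
        (show Nat.card {v : U // v ∈ lev R 0 ∧ v ∈ oA χ o'} + 1 ≤ _ from h1)
      have h3 : Nat.card (oA χ o') * (Q - 1) + Nat.card (oA χ o') = Nat.card (oA χ o') * Q := by
        rw [Nat.mul_sub_one, Nat.sub_add_cancel (Nat.le_mul_of_pos_right _ (by omega))]
      rw [add_mul, one_mul] at h2
      omega
  have h4 : ∑ o' ∈ s, Nat.card (oA χ o') ≤ Nat.card Ω := sum_le H.hnd χ hχ s
  have hX := H.hX X (hXeq _ he₁)
  change B * ((Q - 1) * d) ≤ _ at hX
  have key : B * ((Q - 1) * d) ≤ Nat.card Ω * ((Q - 1) * d) :=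
    calc B * ((Q - 1) * d) ≤ Nat.card (lev R 0) * X * Q := hX
      _ ≤ Nat.card (lev R 0) * (m * d) * Q :=
          Nat.mul_le_mul_right _ (Nat.mul_le_mul_left _ hmX)
      _ = m * Nat.card (lev R 0) * Q * d := by ring
      _ ≤ (∑ o' ∈ s, Nat.card (oA χ o')) * (Q - 1) * d := Nat.mul_le_mul_right _ h
      _ ≤ Nat.card Ω * (Q - 1) * d := Nat.mul_le_mul_right _ (Nat.mul_le_mul_right _ h4)
      _ = _ := by ring
  have hpos : 0 < (Q - 1) * d := Nat.mul_pos (by omega) hd0
  have := Nat.le_of_mul_le_mul_right key hpos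
  omega

/-- An annihilator of vectors of value one over two elements lies in a line. -/
theorem value_one_class (hp : H.p = 2) {o : Orb R Ω} {a y : U} (hao : a ∈ oA χ o) (ha0 : a ≠ 0)
    (hyA : y ∈ oA χ o) (hy : ∀ c : F, y ≠ c • a) (hone : ∀ x ∈ oA χ o, x ≠ 0 → R x = 1) :
    False := by
  classical
  cases nonempty_fintype U
  have hF := H.two_elems hp
  obtain ⟨hN6, hB⟩ := H.h2 hp
  have h11 : (1 : F) + 1 = 0 := (hF _).resolve_right (by simp)
  have hRa := hone a hao ha0
  have hyne : y ≠ 0 ∧ y ≠ a :=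
    ⟨fun e => hy 0 (by rw [e, zero_smul]), fun e => hy 1 (by rw [e, one_smul])⟩
  have haa : polar R a a = 0 := by
    rw [polar_self', show (2 : F) = 1 + 1 by ring, h11, zero_mul]
  -- two different non-zero vectors are not orthogonal
  have hpol : ∀ x ∈ oA χ o, ∀ z ∈ oA χ o, x ≠ 0 → z ≠ 0 → x - z ≠ 0 → polar R x z = 1 := by
    intro x hx z hz hx0 hz0 hxz
    have h := hone _ (sub_mem hx hz) hxz
    rw [sub_eq_add_neg, QuadraticMap.map_add R, QuadraticMap.map_neg, hone x hx hx0,
      hone z hz hz0, h11, zero_add, polar_neg_right] at h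
    linear_combination -h - h11
  have hA4 : Nat.card (oA χ o) ≤ 4 := by
    have hsub : (Finset.univ.filter fun v => v ∈ oA χ o) ⊆ ({0, a, y, y + a} : Finset U) := by
      intro x hx
      have hxA : x ∈ oA χ o := (Finset.mem_filter.1 hx).2
      simp only [Finset.mem_insert, Finset.mem_singleton]
      by_contra hcon
      push Not at hcon
      obtain ⟨hx0, hxa, hxy, hxya⟩ := hcon
      have hya : y + a ≠ 0 := by
        intro e
        have hna : -a = a := by
          rw [← neg_one_smul F a, show (-1 : F) = 1 by linear_combination -h11, one_smul]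
        exact hyne.2 (by rw [eq_neg_of_add_eq_zero_left e, hna])
      have h1 := hpol x hxA a hao hx0 ha0 (sub_ne_zero.2 hxa)
      have h2 := hpol x hxA y hyA hx0 hyne.1 (sub_ne_zero.2 hxy)
      have h3 := hpol x hxA _ (add_mem hyA hao) hx0 hya (sub_ne_zero.2 hxya)
      rw [polar_add_right, h1, h2, h11] at h3
      exact zero_ne_one h3
    refine le_trans ?_ ((Finset.card_le_card hsub).trans Finset.card_le_four)
    rw [Nat.card_eq_fintype_card]
    exact (Fintype.card_subtype _).le
  let s : Finset (Orb R Ω) := Finset.univ.filter fun o' => Nat.card (oA χ o') ≤ 4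
  let sa := s.filter fun o' => a ∈ oA χ o'
  obtain ⟨u₀, -, hu₀, hu₀a, hu₀i⟩ := exists_singular_perp H.hnd H.P ha0
  obtain ⟨u, hu, hua, huy⟩ := exists_singular_sep H.hnd ha0 hu₀ hu₀a hu₀i hy
  let Φ : U →ₗ[F] F × F := ((polarBilin R).flip u).prod ((polarBilin R).flip a)
  have hΦ : ∀ b, b ∈ LinearMap.ker Φ ↔ polar R b u = 0 ∧ polar R b a = 0 := fun b => by
    simp [Φ]
  have hdim : finrank F U ≤ finrank F (LinearMap.ker Φ) + 2 := by
    have h := LinearMap.finrank_range_add_finrank_ker Φ
    have h2 := Submodule.finrank_le (LinearMap.range Φ)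
    rw [Module.finrank_prod, finrank_self] at h2
    omega
  let T : Finset U := sa.biUnion fun o' => (Finset.univ.filter fun v => v ∈ oA χ o') \ {0, a}
  have hT : T.card ≤ sa.card * 2 := by
    refine Finset.card_biUnion_le_card_mul _ _ 2 fun o' ho' => ?_
    obtain ⟨hs, ha'⟩ := Finset.mem_filter.1 ho'
    have h4 := (Finset.mem_filter.1 hs).2
    rw [Finset.card_sdiff_of_subset (fun v hv => by
      simp only [Finset.mem_insert, Finset.mem_singleton] at hv
      rcases hv with rfl | rfl <;> simp [ha']), Finset.card_pair ha0.symm,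
      ← Fintype.card_subtype, ← Nat.card_eq_fintype_card]
    have e : Nat.card {v // v ∈ oA χ o'} = Nat.card (oA χ o') := rfl
    omega
  have hyu : polar R y u = 1 := (hF _).resolve_left (by rw [polar_comm]; exact huy)
  let f : U → U := fun b => y + b + (-(polar R y b) - R b) • u
  let K : Finset U := Finset.univ.filter fun b => b ∈ LinearMap.ker Φ
  have hfT : ∀ b ∈ K, f b ∈ T := by
    intro b hb
    obtain ⟨hbu, hba⟩ := (hΦ b).1 (Finset.mem_filter.1 hb).2
    have hub : polar R u b = 0 := by rw [polar_comm]; exact hbu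
    have hsy : (siegel R u b hu hub).1 y = f b := by
      simp [siegel_apply, f, hyu]
    have hsa : (siegel R u b hu hub).1 a = a :=
      siegel_fix hu hub (by rw [polar_comm]; exact hua) (by rw [polar_comm]; exact hba)
    refine Finset.mem_biUnion.2 ⟨mkL R (siegel_mem (Q := R) hu hub) • o,
      Finset.mem_filter.2 ⟨Finset.mem_filter.2 ⟨Finset.mem_univ _, by
        rw [card_oA_smul χ]; exact hA4⟩, ?_⟩,
      Finset.mem_sdiff.2 ⟨Finset.mem_filter.2 ⟨Finset.mem_univ _, ?_⟩, ?_⟩⟩
    · rw [← hsa, oA_mkL]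
      exact hao
    · rw [← hsy, oA_mkL]
      exact hyA
    · simp only [Finset.mem_insert, Finset.mem_singleton, not_or]
      exact ⟨fun e => hyne.1 ((LinearEquiv.map_eq_zero_iff _).1 (hsy.trans e)),
        fun e => hyne.2 ((siegel R u b hu hub).1.injective (hsy.trans (e.trans hsa.symm)))⟩
  have hKle : K.card ≤ 2 * T.card := by
    refine Finset.card_le_mul_card_image_of_maps_to hfT 2 fun w _ => ?_
    rcases Finset.eq_empty_or_nonempty (K.filter fun b => f b = w) with he | ⟨b₀, hb₀⟩
    · simp [he]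
    refine (Finset.card_le_card (t := ({b₀, b₀ + u} : Finset U)) fun b hb => ?_).trans
      Finset.card_le_two
    have e : f b = f b₀ := (Finset.mem_filter.1 hb).2.trans (Finset.mem_filter.1 hb₀).2.symm
    set t := (-(polar R y b₀) - R b₀) - (-(polar R y b) - R b)
    have e' : b = b₀ + t • u := by
      rw [eq_comm, ← sub_eq_zero] at e ⊢
      rw [← e]
      simp only [f, t]
      module
    rcases hF t with ht | ht
    · simp [e', ht]
    · simp [e', ht]
  have hKge : 2 ^ (finrank F U - 2) ≤ K.card := by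
    rw [show K.card = Nat.card (LinearMap.ker Φ) by
      rw [Nat.card_eq_fintype_card]; exact (Fintype.card_subtype _).symm,
      Module.natCard_eq_pow_finrank (K := F), H.hp, hp]
    exact Nat.pow_le_pow_right (by omega) (by omega)
  have h16 : 2 ^ 4 ≤ 2 ^ (finrank F U - 2) := Nat.pow_le_pow_right (by omega) (by omega)
  have hsa4 : 4 ≤ sa.card := by omega
  have h := le_card_of_cover (Ω := Ω) H.hnd χ hχ s (lev R 1) 4 4 3 (fun v hv => ?_) fun o' ho' => by
    have h4 := (Finset.mem_filter.1 ho').2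
    have h1 : Nat.card {v : U // v ∈ lev R 1 ∧ v ∈ oA χ o'} < Nat.card (oA χ o') := by
      have hsp := card_split (fun v : U => v ∈ oA χ o') (fun v => v ∈ lev R 1)
      have hpos : 0 < Nat.card {v : U // v ∈ oA χ o' ∧ ¬ v ∈ lev R 1} :=
        Nat.card_pos_iff.2 ⟨⟨⟨0, zero_mem _, fun h => h.1 rfl⟩⟩, inferInstance⟩
      rw [Nat.card_congr (Equiv.subtypeEquivRight fun v =>
        (and_comm : v ∈ lev R 1 ∧ v ∈ oA χ o' ↔ _))]
      show _ < Nat.card {v : U // v ∈ oA χ o'}
      omega
    omega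
  · have h4 := sum_le (Ω := Ω) H.hnd χ hχ s
    omega
  · obtain ⟨g, hg, rfl⟩ := level_trans H.hnd H.P ha0 hv.1 (hRa.trans hv.2.symm)
    refine le_trans hsa4 (Finset.card_le_card_of_injOn (fun o' => mkL R hg • o') (fun o' ho' => ?_)
      fun o₁ _ o₂ _ e => smul_left_cancel _ e)
    obtain ⟨hs, ha'⟩ := Finset.mem_filter.1 ho'
    refine Finset.mem_filter.2 ⟨Finset.mem_filter.2 ⟨Finset.mem_univ _, ?_⟩,
      (oA_mkL χ hg o' a).2 ha'⟩
    rw [card_oA_smul χ]
    exact (Finset.mem_filter.1 hs).2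

/-- An annihilator is everything or lies in a line. -/
theorem classify (o : Orb R Ω) :
    oA χ o = ⊤ ∨ ∃ w : U, ∀ x ∈ oA χ o, ∃ c : F, x = c • w := by
  by_contra hcon
  push Not at hcon
  obtain ⟨htop, hline⟩ := hcon
  have hbig : ∀ a ∈ oA χ o, a ≠ 0 → H.p ≤ mult R Ω χ a := by
    intro a ha ha0
    by_contra hm
    obtain ⟨y, hyA, hy⟩ := hline a
    exact htop (eq_top_of_small H χ ha0 (not_le.1 hm) ha hyA hy)
  have hval : ∀ a ∈ oA χ o, a ≠ 0 → ∀ b ∈ oA χ o, b ≠ 0 → R a = R b := fun a ha ha0 b hb hb0 => by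
    by_contra hne
    exact not_two_values H χ hχ hlt ha0 hb0 hne (hbig a ha ha0) (hbig b hb hb0)
  obtain ⟨x₀, hx₀, hx₀i⟩ := hline 0
  have hx₀0 : x₀ ≠ 0 := fun e => hx₀i 0 (by rw [e, zero_smul])
  obtain ⟨y, hy, hyi⟩ := hline x₀
  have hy0 : y ≠ 0 := fun e => hyi 0 (by rw [e, zero_smul])
  by_cases hc : R x₀ = 0
  · obtain ⟨w, hw⟩ := singular_class H χ hχ hlt (o := o) fun x hx => by
      by_cases h0 : x = 0
      · rw [h0, QuadraticMap.map_zero]
      · rw [hval x hx h0 x₀ hx₀ hx₀0, hc]
    obtain ⟨z, hz, hzi⟩ := hline w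
    obtain ⟨c, hc'⟩ := hw z hz
    exact hzi c hc'
  rcases H.hp23 with hp | hp
  · exact value_one_class H χ hχ hlt hp hx₀ hx₀0 hy hyi fun x hx h0 => by
      rw [hval x hx h0 x₀ hx₀ hx₀0]
      exact (H.two_elems hp _).resolve_left hc
  · have h3 : (3 : F) = 0 := by
      have := H.cast_p
      rw [hp] at this
      exact_mod_cast this
    have h2 : (2 : F) ≠ 0 := fun h => one_ne_zero (α := F) (by linear_combination h3 - h)
    have hne1 : x₀ + y ≠ 0 := fun e => hyi (-1) (by rw [eq_neg_of_add_eq_zero_right e, neg_one_smul])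
    have hne2 : x₀ - y ≠ 0 := fun e => hyi 1 (by rw [← sub_eq_zero.1 e, one_smul])
    have e1 := hval _ (add_mem hx₀ hy) hne1 x₀ hx₀ hx₀0
    have e2 := hval _ (sub_mem hx₀ hy) hne2 x₀ hx₀ hx₀0
    have e3 := hval y hy hy0 x₀ hx₀ hx₀0
    rw [QuadraticMap.map_add R, e3] at e1
    rw [sub_eq_add_neg, QuadraticMap.map_add R, QuadraticMap.map_neg, e3, polar_neg_right] at e2
    exact hc ((mul_eq_zero.1 (by linear_combination e1 + e2 : (2 : F) * R x₀ = 0)).resolve_left h2)

end CfsgLib.MinIndexSmall
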