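import Cfsg.Agent.Lib.MinIndexSmall.TwistTwo

/-!
The minimal index of `PΩ⁺_{2m}(2)`.
-/

set_option autoImplicit false
set_option linter.unusedSectionVars false

namespace CfsgLib.MinIndexSmall

open QuadraticMap Module CfsgLib.Classical.Quad CfsgLib.MinIndexOrth

/-- The numerical condition for totally singular annihilators. -/
theorem num_two_X {v X B S : ℕ} (hv : 4 ≤ v) (hB : B + 2 * v = 8 * (v * v))
    (hS : S + 1 = 2 * (v * v) + v) (hX : X + 2 + 2 * (v * v) = S + 1 + v * v) :
    B * ((2 * v - 1) * (2 * v - 2)) ≤ S * X * (2 * v) := by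
  obtain ⟨t, rfl⟩ : ∃ t, v = t + 4 := ⟨v - 4, by omega⟩
  rw [show 2 * (t + 4) - 1 = 2 * t + 7 by omega, show 2 * (t + 4) - 2 = 2 * (t + 3) by omega]
  have hS' : S = (2 * t + 7) * (t + 5) := by
    ring_nf at hS ⊢
    omega
  have hX' : X = (t + 6) * (t + 3) := by
    ring_nf at hS hX ⊢
    omega
  have hB' : B ≤ (t + 4) * (t + 5) * (t + 6) := by
    ring_nf at hB ⊢
    omega
  rw [hS', hX']
  calc B * ((2 * t + 7) * (2 * (t + 3)))
      ≤ (t + 4) * (t + 5) * (t + 6) * ((2 * t + 7) * (2 * (t + 3))) := Nat.mul_le_mul_right _ hB'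
    _ = _ := by ring

/-- The minimal index of `PΩ⁺_{2(n+1)}(2)`. -/
theorem plus_two_min_index {F : Type*} [Field F] [Finite F] (hF : Nat.card F = 2) (n : ℕ)
    (hn : 3 ≤ n) :
    (∀ K : Subgroup (Cfsg.POmega F (Cfsg.quadFormPlus (n + 1) F)), K ≠ ⊤ →
      2 ^ n * (2 ^ (n + 1) - 1) ≤ K.index) ∧
    ∃ K : Subgroup (Cfsg.POmega F (Cfsg.quadFormPlus (n + 1) F)),
      K.index = 2 ^ n * (2 ^ (n + 1) - 1) := by
  classical
  cases nonempty_fintype F
  have h2 : (2 : F) = 0 := two_eq_zero_of_card hF
  have hW : Nat.card (Fin 0 → F) = 1 := by simp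
  obtain ⟨v, hv⟩ : ∃ v, 2 ^ (n - 1) = v := ⟨_, rfl⟩
  have hu : 2 ^ n = 2 * v := by rw [← hv, ← pow_succ', Nat.sub_add_cancel (by omega)]
  have hv4 : 4 ≤ v := by
    rw [← hv]
    calc 4 = 2 ^ 2 := rfl
      _ ≤ _ := Nat.pow_le_pow_right (by omega) (by omega)
  rw [pow_succ' 2 n, hu]
  set B := 2 * v * (2 * (2 * v) - 1) with hBdef
  have hB : B + 2 * v = 8 * (v * v) := by
    rw [hBdef, Nat.mul_sub_one, Nat.sub_add_cancel (Nat.le_mul_of_pos_right _ (by omega))]
    ring
  have hF2 : ∀ c : F, c = 0 ∨ c = 1 := by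
    intro c
    have h1 : (Finset.univ : Finset F) = {0, 1} := by
      refine (Finset.eq_of_subset_of_card_le (Finset.subset_univ _) ?_).symm
      rw [Finset.card_pair (zero_ne_one : (0 : F) ≠ 1), Finset.card_univ,
        ← Nat.card_eq_fintype_card, hF]
    have h := Finset.mem_univ c
    rw [h1] at h
    simpa using h
  have hk1 : Nat.card {w : Fin 0 → F // zeroKernel F w = 1} = 0 := by
    rw [Nat.card_eq_zero]
    exact Or.inl ⟨fun w => zero_ne_one (α := F) w.2⟩
  let R := hypForm n (zeroKernel F)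
  have hlev : ∀ c : F,
      Nat.card {x : ((Fin n → F) × (Fin n → F)) × (Fin 0 → F) // R x = c} + v =
        2 * (v * v) + 2 * v * Nat.card {w : Fin 0 → F // zeroKernel F w = c} := fun c => by
    rw [card_level_hypForm, hW, hF, hu, hv, mul_one, add_right_comm]
    congr 1
    rw [← Nat.succ_mul, Nat.succ_eq_add_one, Nat.sub_add_cancel (by omega)]
    ring
  have hS : Nat.card (lev R 0) + 1 = 2 * (v * v) + v := by
    have h0 : Nat.card (lev R 0) + 1 = Nat.card {x // R x = 0} :=
      (MinIndexOrth.Hyp.card_zeros_eq (R := R)).symm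
    have := hlev 0
    rw [card_zeros_zeroKernel] at this
    omega
  have h1 : Nat.card (lev R 1) + v = 2 * (v * v) := by
    have he : Nat.card (lev R 1) = Nat.card {x // R x = 1} :=
      Nat.card_congr (Equiv.subtypeEquivRight fun x =>
        ⟨fun h => h.2, fun h => ⟨fun e => one_ne_zero (α := F)
          (by rw [← h, e, QuadraticMap.map_zero]), h⟩⟩)
    have := hlev 1
    rw [hk1] at this
    omega
  have hN : finrank F (((Fin n → F) × (Fin n → F)) × (Fin 0 → F)) = 2 * n := by
    rw [finrank_model, Module.finrank_fin_fun]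
    rfl
  have hQN : 2 ^ (2 * n) = 4 * (v * v) := by
    rw [two_mul, pow_add, hu]; ring
  have hvv : 4 * v ≤ v * v := Nat.mul_le_mul_right _ hv4
  let H : Hyp R B :=
    { hnd := ndPolar_hypForm ndPolar_zeroKernel n
      P := hypFrameThree (zeroKernel F) hn
      n := n
      two_le_n := by omega
      p := 2
      hp := hF
      hp23 := Or.inl rfl
      hN := by rw [hN]; omega
      hidx := finrank_ts_le (fun w _ => Subsingleton.elim w 0) n
      hBQN := fun c => by
        rw [hN, hQN, show (2 - 1 : ℕ) = 1 from rfl]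
        rcases hF2 c with rfl | rfl <;> omega
      hB2 := by rw [hN, hQN]; omega
      hpair := fun c d hcd => by
        rcases hF2 c with rfl | rfl <;> rcases hF2 d with rfl | rfl <;>
          first | exact absurd rfl hcd | omega
      h2 := fun _ => by rw [hN]; exact ⟨by omega, by omega⟩
      hX := fun X hX => by
        rw [hN, show 2 * n - 1 = n + (n - 1) by omega, show 2 * n - 2 = (n - 1) + (n - 1) by omega,
          pow_add, pow_add, hu, hv, mul_assoc] at hX
        rw [hu]
        exact num_two_X hv4 hB hS hX }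
  -- a vector of value one in the whole space
  set x : (F × F) × (((Fin n → F) × (Fin n → F)) × (Fin 0 → F)) := ((1, 1), 0) with hxdef
  have hx : plane R x = 1 := by simp [hxdef, plane_apply]
  have hlevV : Nat.card {z // plane R z = plane R x} = B := by
    rw [hx, Nat.card_congr ((hypSuccEquiv (F := F) (W := Fin 0 → F) n).symm.toEquiv.subtypeEquiv
      (q := fun z => hypForm (n + 1) (zeroKernel F) z = 1) fun z => by
        rw [LinearEquiv.coe_toEquiv, ← plane_hypSuccEquiv, LinearEquiv.apply_symm_apply]),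
      card_level_hypForm, hk1, hW, hF, Nat.add_sub_cancel, pow_succ', hu, mul_zero, add_zero,
      mul_one, hBdef, mul_comm]
  have hidx := index_pmStab H.hnd H.P (x := x) (by rw [hx]; exact one_ne_zero)
  rw [if_pos h2, mul_one, hlevV] at hidx
  have hz : Twist R := by
    rcases Nat.lt_or_ge n 4 with h4 | h4
    · obtain rfl : n = 3 := by omega
      exact twist_two_three hF
    · obtain ⟨k, rfl⟩ : ∃ k, n = k + 2 := ⟨n - 2, by omega⟩
      exact twist_two hF k (by omega)
  exact pomega_min_index H hz ((plusEquiv (n + 1) F).trans (hypSuccEquiv n))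
    (fun z => by rw [LinearEquiv.trans_apply, plane_hypSuccEquiv, plusEquiv_spec])
    (pmStab R x) (center_le_pmStab H.hnd H.P x) hidx

end CfsgLib.MinIndexSmall
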