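import Cfsg.Agent.Lib.MinIndexSmall.Classify
import Cfsg.Agent.Lib.Classical.Quad.Std
import Mathlib.Analysis.Fourier.FiniteAbelian.PontryaginDuality

/-!
The lower bound for the degree of a transitive action and for the index of a proper subgroup.
-/

set_option autoImplicit false
set_option linter.unusedSectionVars false

namespace CfsgLib.MinIndexSmall

open QuadraticMap Module CfsgLib.Classical.Quad CfsgLib.MinIndexOrth

variable {F U : Type*} [Field F] [AddCommGroup U] [Module F U]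
variable {R : QuadraticForm F U} {B : ℕ} [Finite F] [Finite U] [FiniteDimensional F U]
variable {Ω : Type*} [MulAction (siegelGroup (plane R)) Ω] [Finite Ω]

/-- The witness against a regular action of degree `|U|`: an element of a parabolic subgroup with
no fixed vector on the radical, normalised by a root element. -/
def Twist (R : QuadraticForm F U) : Prop :=
  ∃ (a b : U) (ha : R a = 0) (hab : polar R a b = 0) (l : Fˣ) (h : Orth R) (i j : ℕ),
    a ≠ 0 ∧ (∀ c : F, c • a ≠ b) ∧ levO R l h ∈ siegelGroup (plane R) ∧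
      siegel R a b ha hab * h = h ^ i * siegel R a b ha hab ∧ h ^ (i * j) = h ∧
      l ^ i = l ∧ l ^ (i * j) = l ∧ ∀ c, (l : F) • h.1 c = c → c = 0

variable (H : Hyp R B) (χ : AddChar F ℂ) (hχ : χ ≠ 1) (hne : 1 < Nat.card Ω)
variable (hlt : Nat.card Ω < B) [MulAction.IsPretransitive (siegelGroup (plane R)) Ω]

include H hne

/-- No point has two non-orthogonal fixing vectors. -/
theorem Tset_polar {x : Ω} {v v' : (F × F) × U} (hv : v ∈ Tset R x) (hv' : v' ∈ Tset R x) :
    polar (plane R) v v' = 0 := by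
  by_contra hne'
  have step : ∀ a b z : (F × F) × U, a ∈ Tset R x → b ∈ Tset R x → polar (plane R) a b ≠ 0 →
      plane R z = 0 → polar (plane R) a z ≠ 0 → z ∈ Tset R x := by
    intro a b z ha hb hab hz haz
    have hb1 : polar (plane R) a ((polar (plane R) a b)⁻¹ • b) = 1 := by
      rw [polar_smul_right, smul_eq_mul, inv_mul_cancel₀ hab]
    have hz1 : polar (plane R) a ((polar (plane R) a z)⁻¹ • z) = 1 := by
      rw [polar_smul_right, smul_eq_mul, inv_mul_cancel₀ haz]
    obtain ⟨w, hw, hwz⟩ := exists_siegel_partner ha.2.1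
      (by simp [QuadraticMap.map_smul, hb.2.1]) (by simp [QuadraticMap.map_smul, hz]) hb1 hz1
    have h1 := Tset_smul_mem (g := ⟨_, siegel_mem ha.2.1 hw⟩)
      (Tset_const_smul (inv_ne_zero hab) hb)
    rw [ha.2.2 w ha.2.1 hw, hwz] at h1
    have h2 := Tset_const_smul haz h1
    rwa [smul_smul, mul_inv_cancel₀ haz, one_smul] at h2
  have hall : ∀ z : (F × F) × U, z ≠ 0 → plane R z = 0 → z ∈ Tset R x := by
    intro z hz0 hz
    by_cases h : polar (plane R) v z = 0
    · obtain ⟨w, hw, h1, h2⟩ :=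
        exists_singular_polar (ndPolar_plane H.hnd) hv.1 hz0 hv.2.1 h
      have hwT := step v v' w hv hv' hne' hw h1
      exact step w v z hwT hv (by rw [polar_comm]; exact h1) hz (by rw [polar_comm]; exact h2)
    · exact step v v' z hv hv' hne' hz h
  have hstab : MulAction.stabilizer (siegelGroup (plane R)) x = ⊤ := by
    refine eq_top_iff.2 ((Subgroup.closure_closure_coe_preimage (k := siegelSet (plane R))).ge.trans
      ((Subgroup.closure_le _).2 ?_))
    rintro (g : siegelGroup (plane R)) ⟨u, w, hu, hw, hg⟩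
    change g • x = x
    by_cases hu0 : u = 0
    · subst hu0
      have e : g = 1 := Subtype.ext (by
        show (g : Orth (plane R)) = 1
        rw [show (g : Orth (plane R)) = _ from hg]
        exact orth_ext fun z => by simp [siegel_apply])
      rw [e, one_smul]
    · have e : g = ⟨_, siegel_mem hu hw⟩ := Subtype.ext hg
      rw [e]
      exact (hall u hu0 hu).2.2 w hu hw
  have : Subsingleton Ω := ⟨fun a b => by
    obtain ⟨g, rfl⟩ := MulAction.exists_smul_eq (siegelGroup (plane R)) x a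
    obtain ⟨g', rfl⟩ := MulAction.exists_smul_eq (siegelGroup (plane R)) x b
    have h1 : g ∈ MulAction.stabilizer (siegelGroup (plane R)) x := by rw [hstab]; trivial
    have h2 : g' ∈ MulAction.stabilizer (siegelGroup (plane R)) x := by rw [hstab]; trivial
    rw [MulAction.mem_stabilizer_iff.1 h1, MulAction.mem_stabilizer_iff.1 h2]⟩
  have := Nat.card_of_subsingleton x
  omega

include hlt

/-- The fixing vectors of a point are not collinear. -/
theorem Tset_indep {x : Ω} {v : (F × F) × U} (hv : v ∈ Tset R x) :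
    ∃ v' ∈ Tset R x, ∀ c : F, c • v ≠ v' := by
  by_contra hcon
  push Not at hcon
  let v₀ : SingVec (plane R) := ⟨v, hv.1, hv.2.1⟩
  have := isPretransitive_pts H.hnd H.P
  choose g hg using fun y : Ω => MulAction.exists_smul_eq (siegelGroup (plane R)) x y
  have hsurj : Function.Surjective fun y => (g y) • (⟦v₀⟧ : Pts R) := by
    intro p
    obtain ⟨k, rfl⟩ := MulAction.exists_smul_eq (siegelGroup (plane R)) (⟦v₀⟧ : Pts R) p
    refine ⟨k • x, ?_⟩
    have h1 : ((g (k • x))⁻¹ * k).1.1 v ∈ Tset R x := by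
      have := Tset_smul_mem (g := (g (k • x))⁻¹ * k) hv
      rwa [mul_smul, inv_smul_eq_iff.2 (hg (k • x)).symm] at this
    obtain ⟨c, hc⟩ := hcon _ h1
    show g (k • x) • (⟦v₀⟧ : Pts R) = k • ⟦v₀⟧
    rw [eq_comm, ← inv_smul_eq_iff, ← mul_smul, smul_mk_pts]
    exact (Quotient.sound (a := v₀) (b := singPerm (plane R) ((g (k • x))⁻¹ * k).1 v₀)
      (s := sameLine (plane R)) ⟨c, hc⟩).symm
  exact absurd (Nat.card_le_card_of_surjective _ hsurj) (not_le.2 (lt_trans hlt H.B_lt_pts))

/-- A point with a fixed root group gives a totally singular stabiliser in the radical. -/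
theorem exists_singular_Rs {x : Ω} {v : (F × F) × U} (hv : v ∈ Tset R x) :
    ∃ x' : Ω, (∀ a ∈ Rs R x', R a = 0) ∧
      ∃ u : U, u ≠ 0 ∧ (∀ c : F, c • u ∈ Rs R x') := by
  obtain ⟨v', hv', hind⟩ := Tset_indep H hne hlt hv
  have hvv' := Tset_polar H hne hv hv'
  obtain ⟨z₀, hz1, hz2⟩ := exists_polar_pair (ndPolar_plane H.hnd)
    (not_smul_eq_of_indep hv.1 hind) 0 1
  obtain ⟨k1, k2, k3⟩ := sub_smul_singular (R := plane R) hv.2.1 hz2
  set z := z₀ + (-(plane R z₀)) • v
  have hp : IsHPair (plane R) z v := ⟨k1, hv.2.1, by rw [polar_comm]; exact k2⟩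
  obtain ⟨g, hg, hgz, hgv⟩ := siegelGroup_map_hpair (ndPolar_plane H.hnd) (planeFrame H.P) hp
    ⟨Q_eP, Q_eP', polar_eP_eP'⟩
  set g' : siegelGroup (plane R) := ⟨g, hg⟩
  have hT1 : eP' F U ∈ Tset R (g' • x) := hgv ▸ Tset_smul_mem (g := g') hv
  have hT2 : g.1 v' ∈ Tset R (g' • x) := Tset_smul_mem (g := g') hv'
  have hfz : polar (plane R) (g.1 v') (eP F U) = 0 := by
    rw [← hgz, orth_polar, k3 v' (by rw [polar_comm]; exact hvv'), hz1]
  have hfv : polar (plane R) (g.1 v') (eP' F U) = 0 := by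
    rw [← hgv, orth_polar, polar_comm]
    exact hvv'
  obtain ⟨u, hu⟩ : ∃ u, g.1 v' = iu F u := by
    refine ⟨(g.1 v').2, ?_⟩
    generalize g.1 v' = w at hfz hfv
    obtain ⟨⟨p, s⟩, a⟩ := w
    simp [polar_plane, eP, eP', polar_zero_right] at hfz hfv
    simp [iu, hfz, hfv]
  rw [hu] at hT2
  have hu0 : u ≠ 0 := by
    rintro rfl
    exact hT2.1 (by simp [iu, Prod.ext_iff])
  refine ⟨g' • x, fun a ha => ?_, u, hu0, fun c => ?_⟩
  · have h1 := Tset_smul_mem (g := sgQ R a) hT1
    rw [mem_Rs.1 ha] at h1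
    have h2 := Tset_polar H hne h1 hT1
    unfold eP' at h2
    rw [sgQ_apply] at h2
    simpa [polar_plane, polar_zero_right] using h2
  · have hQu : R u = 0 := by
      have := hT2.2.1
      rwa [Q_iu] at this
    have hw : polar (plane R) (iu F u) ((-c) • eP F U) = 0 := by
      rw [polar_smul_right, polar_comm, polar_eP_iu, smul_zero]
    have e : sgQ R (c • u) = ⟨_, siegel_mem hT2.2.1 hw⟩ := by
      apply Subtype.ext
      refine orth_ext fun z => ?_
      obtain ⟨⟨p, s⟩, a⟩ := z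
      rw [sgQ_apply, siegel_apply]
      simp [polar_plane, eP, iu, QuadraticMap.map_smul, hQu, plane_apply, polar_zero_right,
        smul_smul, Prod.ext_iff]
      refine ⟨by ring, ?_⟩
      ring_nf
    rw [mem_Rs, e]
    exact hT2.2.2 _ _ hw

include hχ

/-- No point is fixed by the radical. -/
theorem oA_ne_bot (o : Orb R Ω) : oA χ o ≠ ⊥ := by
  intro hbot
  obtain ⟨x, rfl⟩ := omk_surjective o
  have hRs : Rs R x = ⊤ := by
    have h := card_oA H.hnd χ hχ (omk R x)
    rw [hbot, AddSubgroup.card_bot, one_mul] at h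
    exact AddSubgroup.eq_top_of_card_eq _ h
  obtain ⟨x', hsing, u, hu0, hu⟩ := exists_singular_Rs H hne hlt (eP_mem_Tset_iff.2 hRs)
  have hp := H.two_le_p
  have hN := H.hN
  have hR : Nat.card (Rs R x') ≤ H.p ^ H.n := by
    refine le_trans (Nat.card_le_card_of_injective
      (fun a => (⟨a.1, Submodule.subset_span a.2⟩ : Submodule.span F (Rs R x' : Set U)))
      fun a b h => Subtype.ext (congrArg Subtype.val h :)) ?_
    exact H.card_ts_le hsing fun a ha b hb =>
      polar_eq_zero_of_singular (hsing a ha) (hsing b hb) (hsing _ (add_mem ha hb))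
  have h := card_oA H.hnd χ hχ (omk R x')
  rw [oR_omk, H.card_univ] at h
  rcases classify H χ hχ hlt (omk R x') with htop | ⟨w, hw⟩
  · rw [htop, AddSubgroup.card_top, H.card_univ] at h
    have h1 : Nat.card (Rs R x') = 1 :=
      Nat.eq_of_mul_eq_mul_left (show 0 < H.p ^ finrank F U from pow_pos (by omega) _)
        (h.trans (mul_one _).symm)
    rw [AddSubgroup.card_eq_one] at h1
    have h2 := hu 1
    rw [h1, AddSubgroup.mem_bot, one_smul] at h2
    exact hu0 h2
  · have h1 : H.p ^ finrank F U ≤ H.p ^ (H.n + 1) := by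
      rw [← h, pow_succ, mul_comm (H.p ^ H.n)]
      exact Nat.mul_le_mul (H.card_line_le hw) hR
    have := (Nat.pow_le_pow_iff_right (show 1 < H.p by omega)).1 h1
    omega

/-- Some orbit is regular. -/
theorem exists_regular : ∃ o : Orb R Ω, oA χ o = ⊤ := by
  classical
  by_contra hno
  push Not at hno
  have hline : ∀ o : Orb R Ω, ∃ w : U, ∀ x ∈ oA χ o, ∃ c : F, x = c • w := fun o =>
    (classify H χ hχ hlt o).resolve_left (hno o)
  obtain ⟨x₀⟩ : Nonempty Ω := (Nat.card_pos_iff.1 (by omega : 0 < Nat.card Ω)).1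
  set o := omk R x₀
  obtain ⟨w, hw⟩ := hline o
  obtain ⟨v, hv, hv0⟩ : ∃ v ∈ oA χ o, v ≠ 0 := by
    by_contra hcon
    push Not at hcon
    exact oA_ne_bot H χ hχ hne hlt o ((AddSubgroup.eq_bot_iff_forall _).2 hcon)
  obtain ⟨t, rfl⟩ := hw v hv
  have ht : t ≠ 0 := by rintro rfl; simp at hv0
  have hw0 : w ≠ 0 := by rintro rfl; simp at hv0
  obtain ⟨a, ha0, haQ, haw, hai⟩ := exists_singular_perp H.hnd H.P hw0
  obtain ⟨u, -, hu, hua, hui⟩ := exists_singular_perp H.hnd H.P ha0
  obtain ⟨b, hbQ, hba, hbw⟩ := exists_singular_sep H.hnd ha0 hu hua hui (y := w) fun c hc => by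
    by_cases hc0 : c = 0
    · exact hw0 (by rw [hc, hc0, zero_smul])
    · exact hai c⁻¹ (by rw [hc, smul_smul, inv_mul_cancel₀ hc0, one_smul])
  have hab : polar R a b = 0 := by rw [polar_comm]; exact hba
  have hind : ∀ c : F, c • a ≠ b := fun c hc => hbw (by rw [← hc, polar_smul_left, haw, smul_zero])
  obtain ⟨kc, hkc⟩ := exists_conj_root H.hnd H.P haQ hbQ hab hind ha0
  set g := mkL R (siegel_mem (Q := R) haQ hab)
  have hfix : Nat.card {x : Ω // g.1 • x = x} = Nat.card {x : Ω // sgQ R (-a) • x = x} := by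
    have hg' : g.1 = ⟨_, liftO_mem (siegel_mem (w := b) haQ hab)⟩ := Subtype.ext (mkL_coe _)
    rw [← hkc, hg']
    refine Nat.card_congr ((MulAction.toPerm kc).subtypeEquiv fun x => ?_)
    show _ ↔ (kc * _ * kc⁻¹) • kc • x = kc • x
    rw [← mul_smul, mul_assoc, inv_mul_cancel, mul_one, mul_smul, smul_left_cancel_iff]
  have hperp : ∀ o' : Orb R Ω, g • o' = o' → ∀ x ∈ oA χ o',
      polar R x a = 0 ∧ polar R x b = 0 := by
    intro o' hgo x hx
    by_cases hx0 : x = 0
    · simp [hx0]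
    obtain ⟨w', hw'⟩ := hline o'
    have hgx : (siegel R a b haQ hab).1 x ∈ oA χ o' := by
      have := (oA_mkL χ (siegel_mem (Q := R) haQ hab) o' x).2 hx
      rwa [hgo] at this
    obtain ⟨c₁, hc₁⟩ := hw' x hx
    obtain ⟨c₂, hc₂⟩ := hw' _ hgx
    have hc1 : c₁ ≠ 0 := by rintro rfl; exact hx0 (by rw [hc₁, zero_smul])
    set c := c₂ / c₁
    have hcx : (siegel R a b haQ hab).1 x = c • x := by
      rw [hc₂, hc₁, smul_smul, div_mul_cancel₀ _ hc1]
    rw [siegel_apply, hbQ, zero_mul, sub_zero] at hcx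
    by_cases hc' : c = 1
    · rw [hc', one_smul, add_assoc, add_eq_left] at hcx
      obtain ⟨h1, h2⟩ := LinearIndependent.pair_iff.1 (not_smul_eq_of_indep ha0 hind) _ _ hcx
      exact ⟨h1, by simpa using h2⟩
    · have hp : ∀ z, polar R a z = 0 → polar R b z = 0 → (c - 1) * polar R x z = 0 := by
        intro z h1 h2
        have h3 := congrArg (fun y => polar R y z) hcx
        simp only [polar_add_left, polar_smul_left, h1, h2, smul_eq_mul, mul_zero, add_zero] at h3
        linear_combination -h3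
      exact ⟨(mul_eq_zero.1 (hp a (polar_singular_self haQ) hba)).resolve_left
          (sub_ne_zero.2 hc'),
        (mul_eq_zero.1 (hp b hab (polar_singular_self hbQ))).resolve_left (sub_ne_zero.2 hc')⟩
  have hlt' : Nat.card {x : Ω // g.1 • x = x} < Nat.card {x : Ω // sgQ R (-a) • x = x} := by
    rw [card_fix_sgQ H.hnd χ hχ]
    refine lt_of_le_of_lt (card_fix_lev_le H.hnd χ hχ g)
      (Finset.sum_lt_sum_of_subset (i := o) ?_ ?_ ?_ Nat.card_pos fun _ _ _ => Nat.zero_le _)
    · intro o' ho'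
      refine Finset.mem_filter.2 ⟨Finset.mem_univ _, neg_mem (mem_oR_of_perp H.hnd χ hχ ?_)⟩
      exact fun x hx => (hperp o' (Finset.mem_filter.1 ho').2 x hx).1
    · refine Finset.mem_filter.2 ⟨Finset.mem_univ _, neg_mem (mem_oR_of_perp H.hnd χ hχ ?_)⟩
      intro x hx
      obtain ⟨c, rfl⟩ := hw x hx
      rw [polar_smul_left, polar_comm R w a, haw, smul_zero]
    · intro ho
      have h1 := (hperp o (Finset.mem_filter.1 ho).2 _ hv).2
      rw [polar_smul_left, smul_eq_mul] at h1
      exact hbw (by rw [polar_comm]; exact (mul_eq_zero.1 h1).resolve_left ht)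
  omega

/-- All points lie in one orbit of the radical, on which it is regular. -/
theorem single_regular : (∀ o o' : Orb R Ω, o = o') ∧ ∀ x : Ω, Rs R x = ⊥ := by
  classical
  obtain ⟨o₀, ho₀⟩ := exists_regular H χ hχ hne hlt
  have hp := H.two_le_p
  have hN := H.five_le
  set QN := H.p ^ finrank F U with hQN
  have htop : ∀ o : Orb R Ω, oA χ o = ⊤ → Nat.card (oA χ o) = QN := fun o ho => by
    rw [ho, AddSubgroup.card_top, H.card_univ]
  have hone : ∀ o : Orb R Ω, oA χ o = ⊤ → o = o₀ := by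
    intro o ho
    by_contra hne'
    have h := sum_le (Ω := Ω) H.hnd χ hχ {o, o₀}
    rw [Finset.sum_pair hne', htop o ho, htop o₀ ho₀] at h
    have h2 := H.hB2
    change B ≤ 2 * QN at h2
    omega
  set rest := Finset.univ.erase o₀ with hrest
  have hd : Nat.card Ω = QN + ∑ o ∈ rest, Nat.card (oA χ o) := by
    rw [card_eq_sum H.hnd χ hχ, ← Finset.add_sum_erase _ _ (Finset.mem_univ o₀), htop o₀ ho₀]
  have hsmall : ∀ o ∈ rest, Nat.card (oA χ o) ≤ H.p := by
    intro o ho
    rcases classify H χ hχ hlt o with h | ⟨w, hw⟩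
    · exact absurd (hone o h) (Finset.ne_of_mem_erase ho)
    · exact H.card_line_le hw
  rcases Finset.eq_empty_or_nonempty rest with hempty | ⟨o₁, ho₁⟩
  · have e : ∀ o : Orb R Ω, o = o₀ := fun o => by
      by_contra hne'
      have : o ∈ rest := Finset.mem_erase.2 ⟨hne', Finset.mem_univ _⟩
      rw [hempty] at this
      simp at this
    refine ⟨fun o o' => (e o).trans (e o').symm, fun x => ?_⟩
    have h := card_oA H.hnd χ hχ (omk R x)
    rw [e (omk R x), ho₀, AddSubgroup.card_top] at h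
    have h1 : Nat.card (oR o₀) = 1 :=
      Nat.eq_of_mul_eq_mul_left (show 0 < Nat.card U from Nat.card_pos) (h.trans (mul_one _).symm)
    rw [← oR_omk, e (omk R x)]
    exact AddSubgroup.card_eq_one.1 h1
  exfalso
  obtain ⟨v, hv, hv0⟩ : ∃ v ∈ oA χ o₁, v ≠ 0 := by
    by_contra hcon
    push Not at hcon
    exact oA_ne_bot H χ hχ hne hlt o₁ ((AddSubgroup.eq_bot_iff_forall _).2 hcon)
  set C := lev R (R v)
  have hcov : 1 * Nat.card C * H.p ≤ (∑ o ∈ rest, Nat.card (oA χ o)) * (H.p - 1) := by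
    refine le_card_of_cover H.hnd χ hχ rest C 1 H.p (H.p - 1) (fun z hz => ?_) fun o ho => ?_
    · obtain ⟨h, hh, rfl⟩ := level_trans H.hnd H.P hv0 hz.1 hz.2.symm
      refine Finset.card_pos.2 ⟨mkL R hh • o₁, Finset.mem_filter.2
        ⟨Finset.mem_erase.2 ⟨fun e => ?_, Finset.mem_univ _⟩, (oA_mkL χ hh o₁ v).2 hv⟩⟩
      have h1 := card_oA_smul χ (mkL R hh) o₁
      rw [e, htop o₀ ho₀] at h1
      have h2 := hsmall o₁ ho₁
      have h3 : H.p < QN := by
        rw [hQN]
        calc H.p = H.p ^ 1 := (pow_one _).symm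
          _ < _ := Nat.pow_lt_pow_right (by omega) (by omega)
      omega
    · have h1 : Nat.card {z : U // z ∈ C ∧ z ∈ oA χ o} < Nat.card (oA χ o) := by
        have hsp := card_split (fun z : U => z ∈ oA χ o) (fun z => z ∈ C)
        have hpos : 0 < Nat.card {z : U // z ∈ oA χ o ∧ ¬ z ∈ C} :=
          Nat.card_pos_iff.2 ⟨⟨⟨0, zero_mem _, fun h => h.1 rfl⟩⟩, inferInstance⟩
        rw [Nat.card_congr (Equiv.subtypeEquivRight fun z => (and_comm : z ∈ C ∧ z ∈ oA χ o ↔ _))]
        show _ < Nat.card {z : U // z ∈ oA χ o}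
        omega
      have h2 := hsmall o ho
      have h3 : Nat.card (oA χ o) * (H.p - 1) + Nat.card (oA χ o) = Nat.card (oA χ o) * H.p := by
        rw [Nat.mul_sub_one, Nat.sub_add_cancel (Nat.le_mul_of_pos_right _ (by omega))]
      have h4 := Nat.mul_le_mul_right H.p
        (show Nat.card {z : U // z ∈ C ∧ z ∈ oA χ o} + 1 ≤ _ from h1)
      rw [add_mul, one_mul] at h4
      omega
  have hB := H.hBQN (R v)
  change B * (H.p - 1) ≤ (H.p - 1) * QN + H.p * Nat.card C at hB
  have h1 : B * (H.p - 1) ≤ Nat.card Ω * (H.p - 1) := by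
    rw [one_mul] at hcov
    rw [hd, add_mul, mul_comm QN, mul_comm H.p] at *
    omega
  have h2 := Nat.le_of_mul_le_mul_right h1 (show 0 < H.p - 1 by omega)
  omega

omit hne hlt hχ in
/-- A root element of `U` is conjugate to a non-trivial element of the radical. -/
theorem exists_conj_radical {a b : U} (ha : R a = 0) (hab : polar R a b = 0) (ha0 : a ≠ 0)
    (hind : ∀ c : F, c • a ≠ b) :
    ∃ (k : siegelGroup (plane R)) (c : U), c ≠ 0 ∧
      k * (mkL R (siegel_mem (Q := R) ha hab)).1 * k⁻¹ = sgQ R c := by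
  have hi0 : iu F a ≠ 0 := fun h => ha0 (congrArg Prod.snd h)
  have he0 : eP F U ≠ 0 := (planeFrame H.P).pair₁.left_ne_zero
  obtain ⟨g, hg, hga⟩ := level_trans (ndPolar_plane H.hnd) (planeFrame H.P) hi0 he0
    (by rw [Q_iu, ha, Q_eP])
  obtain ⟨⟨⟨p, s⟩, c⟩, hgb⟩ : ∃ w, g.1 (iu F b) = w := ⟨_, rfl⟩
  have hw : polar (plane R) (eP F U) ((p, s), c) = 0 := by
    rw [← hga, ← hgb, orth_polar, polar_iu, hab]
  have hs : s = 0 := by simpa [polar_plane, eP, polar_zero_left] using hw
  refine ⟨⟨g, hg⟩, c, fun hc => hind p ?_, Subtype.ext ?_⟩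
  · apply iu_injective (F := F)
    apply g.1.injective
    rw [iu_smul, map_smul, hga, hgb, hs, hc]
    simp [eP]
  · show g * (mkL R (siegel_mem (Q := R) ha hab)).1.1 * g⁻¹ = (sgQ R c).1
    rw [mkL_coe, liftO_siegel, siegel_conj]
    show _ = siegel _ _ _ Q_eP (polar_eP_iu c)
    rw [← siegel_add_smul p Q_eP (polar_eP_iu c)]
    exact siegel_congr _ _ _ _ hga (by rw [hgb, hs]; simp [iu, eP])

omit hne hlt in
/-- The minimal degree of a transitive action of `Ω(V)`. -/
theorem card_ge (hne : 1 < Nat.card Ω) (hz : Twist R) : B ≤ Nat.card Ω := by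
  by_contra hlt
  push Not at hlt
  obtain ⟨hsingle, hreg⟩ := single_regular H χ hχ hne hlt
  obtain ⟨a, b, ha, hab, l, h, i, j, ha0, hind, hm, hgh, hij, hli, hlij, hinj⟩ := hz
  obtain ⟨x₀⟩ : Nonempty Ω := (Nat.card_pos_iff.1 (by omega : 0 < Nat.card Ω)).1
  set o := omk R x₀
  have hinj' : ∀ c, (l : F) • h.1 c - c ∈ oR o → c ∈ oR o := by
    intro c hc
    rw [oR_omk, hreg, AddSubgroup.mem_bot, sub_eq_zero] at hc
    rw [hinj c hc]
    exact zero_mem _
  obtain ⟨y, ⟨hy, hky⟩, huy⟩ := existsUnique_fix (hm := hm) (hsingle _ o) hinj'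
  set g := mkL R (siegel_mem (Q := R) ha hab)
  set k := (mkLev R l h hm).1
  have hpow : ∀ e : ℕ, (k ^ e).1 = levO R (l ^ e) (h ^ e) := by
    intro e
    induction e with
    | zero => rw [pow_zero, pow_zero, pow_zero, OneMemClass.coe_one, levO_one, map_one]
    | succ e ih =>
      rw [pow_succ, pow_succ, pow_succ, Subgroup.coe_mul, ih, ← levO_mul]
      rfl
  have hcomm : g.1 * k = k ^ i * g.1 := by
    refine Subtype.ext ?_
    rw [Subgroup.coe_mul, Subgroup.coe_mul, hpow]
    show levO R 1 (siegel R a b ha hab) * levO R l h =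
      levO R (l ^ i) (h ^ i) * levO R 1 (siegel R a b ha hab)
    rw [levO_mul, levO_mul, one_mul, mul_one, hli, hgh]
  have hk : (k ^ i) ^ j = k := by
    refine Subtype.ext ?_
    rw [← pow_mul, hpow, hlij, hij]
    rfl
  have hfix : (k ^ i) • g.1 • y = g.1 • y := by rw [← mul_smul, ← hcomm, mul_smul, hky]
  have hfix' : k • g.1 • y = g.1 • y := by
    rw [← hk]
    have : ∀ e : ℕ, (k ^ i) ^ e • g.1 • y = g.1 • y := by
      intro e
      induction e with
      | zero => rw [pow_zero, one_smul]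
      | succ e ih => rw [pow_succ, mul_smul, hfix, ih]
    exact this j
  have hgy : g.1 • y = y := huy _ ⟨hsingle _ _, hfix'⟩
  obtain ⟨kc, c, hc0, hkc⟩ := exists_conj_radical H ha hab ha0 hind
  have hfix : sgQ R c • kc • y = kc • y := by
    rw [← hkc, ← mul_smul, mul_assoc, inv_mul_cancel, mul_one, mul_smul, hgy]
  have h2 : c ∈ Rs R (kc • y) := mem_Rs.2 hfix
  rw [hreg, AddSubgroup.mem_bot] at h2
  exact hc0 h2

omit [Finite Ω] [MulAction.IsPretransitive (siegelGroup (plane R)) Ω] hne hlt hχ in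
/-- The minimal index of a proper subgroup of `Ω(V)`. -/
theorem index_ge (hz : Twist R) {K : Subgroup (siegelGroup (plane R))} (hK : K ≠ ⊤) :
    B ≤ K.index := by
  have : Finite (Orth (plane R)) :=
    Finite.of_injective (fun g => (g.1 : ((F × F) × U) → (F × F) × U)) fun g h e =>
      orth_ext (congrFun e)
  obtain ⟨χ, hχ⟩ : ∃ χ : AddChar F ℂ, χ ≠ 1 := by
    obtain ⟨χ, hχ⟩ := AddChar.exists_apply_ne_zero.2 (one_ne_zero : (1 : F) ≠ 0)
    exact ⟨χ, AddChar.ne_one_iff.2 ⟨1, hχ⟩⟩
  rw [Subgroup.index_eq_card]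
  refine card_ge (Ω := siegelGroup (plane R) ⧸ K) H χ hχ ?_ hz
  have h1 : K.index ≠ 1 := fun h => hK (Subgroup.index_eq_one.1 h)
  have h0 : K.index ≠ 0 := Subgroup.index_ne_zero_of_finite
  rw [← Subgroup.index_eq_card]
  omega

end CfsgLib.MinIndexSmall
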