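import Cfsg.Agent.Lib.MinIndexSmall.Attain
import Cfsg.Agent.Lib.MinIndexOrth.Models

/-!
The minimal index of `PΩ_{2m+1}(3)`.
-/

set_option autoImplicit false
set_option linter.unusedSectionVars false

namespace CfsgLib.MinIndexSmall

open QuadraticMap Module CfsgLib.Classical.Quad CfsgLib.MinIndexOrth

variable {F U : Type*} [Field F] [AddCommGroup U] [Module F U] {R : QuadraticForm F U}
variable [Finite F] [Finite U] [FiniteDimensional F U]

/-- The twist over three elements: a rotation of order four in an orthogonal plane. -/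
theorem twist_three (hnd : NDPolar R) (P : Frame R) (hF : Nat.card F = 3) : Twist R := by
  classical
  cases nonempty_fintype F
  have h3 : (3 : F) = 0 := by
    have := FiniteField.cast_card_eq_zero F
    rw [← Nat.card_eq_fintype_card, hF] at this
    exact_mod_cast this
  have h2 : (2 : F) ≠ 0 := fun h => one_ne_zero (α := F) (by linear_combination h3 - h)
  set δ := R P.a
  have hδ : δ ≠ 0 := P.Qa
  have hδ1 : δ * δ = 1 := by
    have := FiniteField.pow_card_sub_one_eq_one δ hδ
    rw [← Nat.card_eq_fintype_card, hF] at this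
    rw [← pow_two]; exact this
  set w₁ := P.e₂ + δ • P.f₂
  set w₂ := P.a
  set s := w₁ + w₂
  have hRw₁ : R w₁ = δ := by
    simp only [w₁, Q_comb1, P.pair₂.1, P.pair₂.2.1, P.pair₂.2.2]
    ring
  have h12 : polar R w₁ w₂ = 0 := by
    simp [w₁, w₂, polar_comm R P.e₂ P.a, polar_comm R P.f₂ P.a, P.ae₂, P.af₂]
  have h11 : polar R w₁ w₁ = 2 * δ := by rw [polar_self', hRw₁]
  have h22 : polar R w₂ w₂ = 2 * δ := polar_self' _
  have hRs : R s = 2 * δ := by
    rw [QuadraticMap.map_add R, hRw₁, h12, add_zero]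
    ring
  set b := P.e₂ + (-δ) • P.f₂
  have hab : polar R P.e₁ b = 0 := by simp [b, P.e₁e₂, P.e₁f₂]
  have hb1 : polar R b w₁ = 0 := by
    simp only [b, w₁, polar_add_left, polar_add_right, polar_smul_left, polar_smul_right,
      polar_singular_self P.pair₂.1, polar_singular_self P.pair₂.2.1, P.pair₂.2.2,
      polar_comm R P.f₂ P.e₂, smul_eq_mul]
    ring
  have hb2 : polar R b w₂ = 0 := by
    simp [b, w₂, polar_comm R P.e₂ P.a, polar_comm R P.f₂ P.a, P.ae₂, P.af₂]
  have ha1 : polar R P.e₁ w₁ = 0 := by simp [w₁, P.e₁e₂, P.e₁f₂]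
  have ha2 : polar R P.e₁ w₂ = 0 := by rw [polar_comm]; exact P.ae₁
  set h := refl R w₁ * refl R s
  have hfix : ∀ v, polar R v w₁ = 0 → polar R v w₂ = 0 → h.1 v = v := fun v e1 e2 => by
    have es : polar R v s = 0 := by
      show polar R v (w₁ + w₂) = 0
      rw [polar_add_right, e1, e2, add_zero]
    rw [mul_apply, refl_fix es, refl_fix e1]
  have h2δ : 2 * δ ≠ 0 := mul_ne_zero h2 hδ
  have hs1 : (refl R s).1 w₁ = -w₂ := by
    rw [refl_apply, polar_add_right, h11, h12, add_zero, hRs, div_self h2δ]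
    simp only [s]
    module
  have hs2 : (refl R s).1 w₂ = -w₁ := by
    rw [refl_apply, polar_add_right, polar_comm R w₂ w₁, h22, h12, zero_add, hRs, div_self h2δ]
    simp only [s]
    module
  have hh1 : h.1 w₁ = -w₂ := by
    rw [mul_apply, hs1, map_neg, refl_fix (by rw [polar_comm]; exact h12)]
  have hh2 : h.1 w₂ = w₁ := by
    rw [mul_apply, hs2, map_neg, refl_self (by rw [hRw₁]; exact hδ), neg_neg]
  refine ⟨P.e₁, b, P.pair₁.1, hab, -1, h, 1, 1, P.pair₁.left_ne_zero, fun c hc => ?_, ?_, ?_,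
    by rw [mul_one, pow_one], pow_one _, by rw [mul_one, pow_one], fun c hc => ?_⟩
  · have h' := congrArg (fun v => polar R v P.f₂) hc
    simp [b, P.e₁f₂, P.pair₂.2.2, polar_singular_self P.pair₂.2.1] at h'
  · refine levO_refl_mem hnd P (-1) w₁ s ?_
    rw [hRw₁, hRs, Units.val_neg, Units.val_one]
    have hcases : δ = 1 ∨ δ = -1 := mul_self_eq_one_iff.1 hδ1
    rcases hcases with e | e
    · rw [e, show (2 : F) * 1 = -1 by linear_combination h3]
    · rw [e, show (2 : F) * -1 = 1 by linear_combination -h3]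
      exact reflClass_comm (ndPolar_plane hnd) (planeFrame P) _ _
  · rw [pow_one, eq_comm, ← mul_inv_eq_iff_eq_mul, siegel_conj]
    exact siegel_congr _ _ _ _ (hfix _ ha1 ha2) (hfix _ hb1 hb2)
  · have hc' : h.1 c = -c := by
      rw [Units.val_neg, Units.val_one, neg_one_smul, neg_eq_iff_eq_neg] at hc
      exact hc
    have e1 : polar R c w₁ = polar R c w₂ := by
      conv_lhs => rw [← orth_polar h, hc', hh1]
      simp [polar_neg_left, polar_neg_right]
    have e2 : polar R c w₂ = -polar R c w₁ := by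
      conv_lhs => rw [← orth_polar h, hc', hh2]
      simp [polar_neg_left]
    have e0 : polar R c w₁ = 0 := by
      have : (2 : F) * polar R c w₁ = 0 := by linear_combination e1 + e2
      exact (mul_eq_zero.1 this).resolve_left h2
    rw [hfix c e0 (by rw [← e1, e0])] at hc'
    have : (2 : F) • c = 0 := by rw [two_smul]; nth_rewrite 2 [hc']; exact add_neg_cancel c
    exact (smul_eq_zero.1 this).resolve_left h2

theorem num_three (u : ℕ) (hu : 9 ≤ u) :
    (3 * u * (3 * u - 1) / 2) * 2 = 9 * (u * u) - 3 * u ∧ 3 * u ≤ 9 * (u * u) := by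
  have h : 3 * u ≤ 9 * (u * u) := by nlinarith
  refine ⟨?_, h⟩
  rw [Nat.div_mul_cancel ?_, Nat.mul_sub, mul_one]
  · congr 1
    ring
  · rcases Nat.even_or_odd (3 * u) with he | he
    · exact (he.two_dvd).mul_right _
    · exact ((he.tsub_odd odd_one).two_dvd).mul_left _

/-- The numerical condition for totally singular annihilators. -/
theorem num_three_X {u w X B S : ℕ} (hu : u = 3 * w) (hw : 3 ≤ w) (hB : B * 2 + 3 * u = 9 * (u * u))
    (hS : S + 1 = u * u) (hX : X + 3 + u * u = S + 1 + u * w) :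
    B * ((u - 1) * (u - 3)) ≤ S * X * u := by
  subst hu
  obtain ⟨v, rfl⟩ : ∃ v, w = v + 3 := ⟨w - 3, by omega⟩
  rw [show 3 * (v + 3) - 1 = 3 * v + 8 by omega, show 3 * (v + 3) - 3 = 3 * v + 6 by omega]
  have hS' : S = (3 * v + 8) * (3 * v + 10) := by
    have : (3 * (v + 3)) * (3 * (v + 3)) = (3 * v + 8) * (3 * v + 10) + 1 := by ring
    omega
  have hX' : X = (3 * v + 6) * (v + 4) := by
    have : 3 * (v + 3) * (v + 3) = (3 * v + 6) * (v + 4) + 3 := by ring
    omega
  have hB' : B * 2 ≤ 2 * ((3 * v + 10) * (v + 4) * (3 * (v + 3))) := by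
    ring_nf at hB ⊢
    omega
  rw [hS', hX']
  refine Nat.le_of_mul_le_mul_left ?_ (show 0 < 2 by omega)
  calc 2 * (B * ((3 * v + 8) * (3 * v + 6))) = B * 2 * ((3 * v + 8) * (3 * v + 6)) := by ring
    _ ≤ 2 * ((3 * v + 10) * (v + 4) * (3 * (v + 3))) * ((3 * v + 8) * (3 * v + 6)) :=
        Nat.mul_le_mul_right _ hB'
    _ = _ := by ring

theorem card_lev_eq (c : F) (hc : c ≠ 0) :
    Nat.card (lev R c) = Nat.card {v : U // R v = c} :=
  Nat.card_congr (Equiv.subtypeEquivRight fun v =>
    ⟨fun h => h.2, fun h => ⟨fun e => hc (by rw [← h, e, QuadraticMap.map_zero]), h⟩⟩)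

theorem card_lev_zero : Nat.card (lev R 0) + 1 = Nat.card {v : U // R v = 0} :=
  (MinIndexOrth.Hyp.card_zeros_eq (R := R)).symm

/-- The minimal index of `PΩ_{2(n+1)+1}(3)`. -/
theorem odd_three_min_index {F : Type*} [Field F] [Finite F] (hF : Nat.card F = 3) (n : ℕ)
    (hn : 2 ≤ n) :
    (∀ K : Subgroup (Cfsg.POmega F (Cfsg.quadFormOdd (n + 1) F)), K ≠ ⊤ →
      3 ^ (n + 1) * (3 ^ (n + 1) - 1) / 2 ≤ K.index) ∧
    ∃ K : Subgroup (Cfsg.POmega F (Cfsg.quadFormOdd (n + 1) F)),
      K.index = 3 ^ (n + 1) * (3 ^ (n + 1) - 1) / 2 := by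
  classical
  cases nonempty_fintype F
  have hz3 : (3 : F) = 0 := by
    have := FiniteField.cast_card_eq_zero F
    rw [← Nat.card_eq_fintype_card, hF] at this
    exact_mod_cast this
  have h2 : (2 : F) ≠ 0 := fun h => one_ne_zero (α := F) (by linear_combination hz3 - h)
  have hW : Nat.card (Unit → F) = 3 := by rw [Nat.card_fun, hF]; simp
  -- values of the line
  have hF3 : ∀ c : F, c = 0 ∨ c = 1 ∨ c = -1 := fun c => by
    by_cases hc : c = 0
    · exact Or.inl hc
    · have := FiniteField.pow_card_sub_one_eq_one c hc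
      rw [← Nat.card_eq_fintype_card, hF, show (3 - 1 : ℕ) = 2 from rfl, pow_two] at this
      exact Or.inr (mul_self_eq_one_iff.1 this)
  have hl1 : Nat.card {w : Unit → F // lineForm F w = 1} = 2 := by
    rw [Nat.card_eq_two_iff]
    refine ⟨⟨fun _ => 1, by simp [lineForm_apply]⟩, ⟨fun _ => -1, by simp [lineForm_apply]⟩,
      fun e => ?_, Set.eq_univ_of_forall ?_⟩
    · have := congrFun (congrArg Subtype.val e) ()
      exact h2 (by linear_combination this)
    · rintro ⟨w, hw⟩
      rw [lineForm_apply] at hw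
      rcases mul_self_eq_one_iff.1 hw with e | e
      · exact Or.inl (Subtype.ext (funext fun _ => e))
      · exact Or.inr (Subtype.ext (funext fun _ => e))
  have hlm : Nat.card {w : Unit → F // lineForm F w = -1} = 0 := by
    rw [Nat.card_eq_zero]
    refine Or.inl ⟨fun ⟨w, hw⟩ => ?_⟩
    rw [lineForm_apply] at hw
    rcases hF3 (w ()) with e | e | e <;> rw [e] at hw
    · simp at hw
    · exact h2 (by linear_combination hw)
    · exact h2 (by linear_combination hw)
  obtain ⟨w, hw⟩ : ∃ w, 3 ^ (n - 1) = w := ⟨_, rfl⟩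
  set u := 3 ^ n with hudef
  have huw : u = 3 * w := by rw [← hw, hudef, ← pow_succ', Nat.sub_add_cancel (by omega)]
  have hw3 : 3 ≤ w := by
    rw [← hw]
    calc 3 = 3 ^ 1 := (pow_one 3).symm
      _ ≤ _ := Nat.pow_le_pow_right (by omega) (by omega)
  obtain ⟨hB, hu3⟩ := num_three u (by omega)
  set B := 3 * u * (3 * u - 1) / 2 with hBdef
  have hB' : 3 ^ (n + 1) * (3 ^ (n + 1) - 1) / 2 = B := by rw [hBdef, pow_succ', hudef]
  rw [hB']
  let R := hypForm n (lineForm F)
  have hlev : ∀ c : F, Nat.card {v : ((Fin n → F) × (Fin n → F)) × (Unit → F) // R v = c} + u =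
      u * u + u * Nat.card {w : Unit → F // lineForm F w = c} := fun c => by
    rw [card_level_hypForm, hW, hF, ← hudef, hw, mul_assoc (u - 1), mul_comm w 3, ← huw,
      add_right_comm]
    congr 1
    rw [← Nat.succ_mul, Nat.succ_eq_add_one, Nat.sub_add_cancel (by omega)]
  have hS : Nat.card (lev R 0) + 1 = u * u := by
    rw [card_lev_zero]
    have := hlev 0
    rw [card_zeros_lineForm] at this
    omega
  have h1 : Nat.card (lev R 1) = u * u + u := by
    rw [card_lev_eq 1 one_ne_zero]
    have := hlev 1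
    rw [hl1] at this
    omega
  have hm : Nat.card (lev R (-1)) + u = u * u := by
    rw [card_lev_eq (-1) (neg_ne_zero.2 one_ne_zero)]
    have := hlev (-1)
    rw [hlm] at this
    omega
  have hN : finrank F (((Fin n → F) × (Fin n → F)) × (Unit → F)) = 2 * n + 1 := by
    rw [finrank_model, Module.finrank_fintype_fun_eq_card, Fintype.card_unit]
  have hQN : 3 ^ (2 * n + 1) = 3 * (u * u) := by
    rw [pow_succ', two_mul, pow_add, hudef]
  have huu : 9 * u ≤ u * u := Nat.mul_le_mul_right _ (by omega)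
  let H : Hyp R B :=
    { hnd := ndPolar_hypForm (ndPolar_lineForm h2) n
      P := hypFrameKernel hn 1 (by simp [lineForm_apply])
      n := n
      two_le_n := hn
      p := 3
      hp := hF
      hp23 := Or.inr rfl
      hN := by rw [hN]; omega
      hidx := finrank_ts_le (fun w hw => funext fun _ => by
        rw [lineForm_apply] at hw
        exact mul_self_eq_zero.1 hw) n
      hBQN := fun c => by
        rw [hN, hQN, show (3 - 1 : ℕ) = 2 from rfl]
        rcases hF3 c with rfl | rfl | rfl <;> omega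
      hB2 := by rw [hN, hQN]; omega
      hpair := fun c d hcd => by
        rcases hF3 c with rfl | rfl | rfl <;> rcases hF3 d with rfl | rfl | rfl <;>
          first | exact absurd rfl hcd | omega
      h2 := fun h => by omega
      hX := fun X hX => by
        rw [hN, show 2 * n + 1 - 1 = n + n by omega, show 2 * n + 1 - 2 = n + (n - 1) by omega,
          pow_add, pow_add, ← hudef, hw] at hX
        rw [← hudef]
        exact num_three_X huw hw3 (by omega) hS hX }
  -- a vector of value -1 in the whole space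
  set x : (F × F) × (((Fin n → F) × (Fin n → F)) × (Unit → F)) := ((1, -1), 0) with hxdef
  have hx : plane R x = -1 := by simp [hxdef, plane_apply]
  have hlevV : Nat.card {v // plane R v = plane R x} = B * 2 := by
    rw [hx, Nat.card_congr ((hypSuccEquiv (F := F) (W := Unit → F) n).symm.toEquiv.subtypeEquiv
      (q := fun v => hypForm (n + 1) (lineForm F) v = -1) fun v => by
        rw [LinearEquiv.coe_toEquiv, ← plane_hypSuccEquiv, LinearEquiv.apply_symm_apply]),
      card_level_hypForm, hlm, hW, hF, hB, mul_zero, add_zero, Nat.add_sub_cancel, ← hudef,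
      pow_succ', ← hudef, Nat.sub_mul, one_mul, Nat.sub_mul]
    congr 1 <;> ring
  have hidx := index_pmStab H.hnd H.P (x := x) (by rw [hx]; exact neg_ne_zero.2 one_ne_zero)
  rw [if_neg h2, hlevV] at hidx
  exact pomega_min_index H (twist_three H.hnd H.P hF)
    ((oddEquiv (n + 1) F).trans (hypSuccEquiv n))
    (fun v => by rw [LinearEquiv.trans_apply, plane_hypSuccEquiv, oddEquiv_spec])
    (pmStab R x) (center_le_pmStab H.hnd H.P x) (by omega)

end CfsgLib.MinIndexSmall
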