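import Cfsg.Agent.Lib.MinIndexSmall.Attain
import Cfsg.Agent.Lib.MinIndexOrth.Models
import Mathlib.LinearAlgebra.Matrix.ToLin

/-!
The twists for the hyperbolic spaces over two elements.
-/

set_option autoImplicit false
set_option linter.unusedSectionVars false

namespace CfsgLib.MinIndexSmall

open QuadraticMap Module CfsgLib.Classical.Quad CfsgLib.MinIndexOrth
open scoped Matrix commutatorElement

/-- An isometry of odd order lies in the Siegel group. -/
theorem mem_siegelGroup_of_odd {F U : Type*} [Field F] [AddCommGroup U] [Module F U]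
    [FiniteDimensional F U] {R : QuadraticForm F U} (hnd : NDPolar R) (P : Frame R) {h : Orth R}
    {k : ℕ} (hk : Odd k) (hh : h ^ k = 1) : h ∈ siegelGroup R := by
  have hc : ∀ x y : Orth R ⧸ siegelGroup R, x * y = y * x := by
    intro x y
    obtain ⟨a, rfl⟩ := QuotientGroup.mk'_surjective (siegelGroup R) x
    obtain ⟨b, rfl⟩ := QuotientGroup.mk'_surjective (siegelGroup R) y
    have h1 : (QuotientGroup.mk' (siegelGroup R)) ⁅a, b⁆ = 1 := (QuotientGroup.eq_one_iff _).2
      (commutator_orth_le hnd P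
        (Subgroup.commutator_mem_commutator (Subgroup.mem_top a) (Subgroup.mem_top b)))
    rw [map_commutatorElement] at h1
    exact commutatorElement_eq_one_iff_mul_comm.1 h1
  have hsq : ∀ x : Orth R ⧸ siegelGroup R, x * x = 1 := by
    intro x
    have hx : x ∈ Subgroup.closure (Set.range (reflClass P)) := by
      rw [closure_reflClass hnd P]; trivial
    induction hx using Subgroup.closure_induction with
    | mem y hy => obtain ⟨c, rfl⟩ := hy; exact reflClass_mul_self P c
    | one => exact mul_one 1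
    | mul y z _ _ hy hz => rw [mul_mul_mul_comm_of_comm hc, hy, hz, one_mul]
    | inv y _ hy => rw [← mul_inv_rev, hy, inv_one]
  rw [← QuotientGroup.eq_one_iff]
  obtain ⟨t, rfl⟩ := hk
  have h1 : ((h : Orth R ⧸ siegelGroup R)) ^ (2 * t + 1) = 1 := by
    rw [← QuotientGroup.mk_pow, hh]; rfl
  rwa [pow_succ, pow_mul, pow_two, hsq, one_pow, one_mul] at h1
where
  mul_mul_mul_comm_of_comm {G : Type _} [Group G] (hc : ∀ x y : G, x * y = y * x) {y z : G} :
      y * z * (y * z) = y * y * (z * z) := by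
    rw [mul_assoc, ← mul_assoc z, hc z y, mul_assoc, ← mul_assoc]

variable {F : Type*} [Field F]

theorem polar_zeroFun (x y : Fin 0 → F) : polar (0 : (Fin 0 → F) → F) x y = 0 := by simp [polar]

/-- An invertible matrix acting on a hyperbolic space. -/
def glOrth {n : ℕ} {W : Type*} [AddCommGroup W] [Module F W] (K : QuadraticForm F W) :
    (Matrix (Fin n) (Fin n) F)ˣ →* Orth (hypForm n K) where
  toFun A := ⟨LinearEquiv.ofLinearMap
    ((((A : Matrix (Fin n) (Fin n) F).mulVecLin).prodMap
      (Matrix.vecMulLinear ((A⁻¹ : _ˣ) : Matrix (Fin n) (Fin n) F))).prodMap LinearMap.id)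
    (((((A⁻¹ : _ˣ) : Matrix (Fin n) (Fin n) F).mulVecLin).prodMap
      (Matrix.vecMulLinear (A : Matrix (Fin n) (Fin n) F))).prodMap LinearMap.id)
    (LinearMap.ext fun v => by simp [Matrix.mulVec_mulVec, Matrix.vecMul_vecMul])
    (LinearMap.ext fun v => by simp [Matrix.mulVec_mulVec, Matrix.vecMul_vecMul]), fun v => by
      rw [hypForm_apply, hypForm_apply]
      congr 1
      show ((A : Matrix (Fin n) (Fin n) F) *ᵥ v.1.1) ⬝ᵥ
        (v.1.2 ᵥ* ((A⁻¹ : _ˣ) : Matrix (Fin n) (Fin n) F)) = v.1.1 ⬝ᵥ v.1.2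
      rw [dotProduct_comm, Matrix.dotProduct_mulVec, Matrix.vecMul_vecMul, Units.inv_mul,
        Matrix.vecMul_one, dotProduct_comm]⟩
  map_one' := orth_ext fun v => by
    simp
  map_mul' A B := orth_ext fun v => by
    simp [mul_inv_rev, Matrix.mulVec_mulVec, Matrix.vecMul_vecMul]

theorem glOrth_apply {n : ℕ} {W : Type*} [AddCommGroup W] [Module F W] (K : QuadraticForm F W)
    (A : (Matrix (Fin n) (Fin n) F)ˣ) (v : ((Fin n → F) × (Fin n → F)) × W) :
    (glOrth K A).1 v = (((A : Matrix (Fin n) (Fin n) F) *ᵥ v.1.1,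
      v.1.2 ᵥ* ((A⁻¹ : _ˣ) : Matrix (Fin n) (Fin n) F)), v.2) := rfl

/-- A map on `Fin (k + 2) → F`: order three on the first two coordinates, `M` on the others. -/
def blockMap {k : ℕ} (M : (Fin k → F) →ₗ[F] (Fin k → F)) :
    (Fin (k + 2) → F) →ₗ[F] (Fin (k + 2) → F) where
  toFun x := Fin.cons (x 1) (Fin.cons (x 0 + x 1) (M (Fin.tail (Fin.tail x))))
  map_add' x y := by
    funext i
    refine Fin.cases (by simp) (fun i => Fin.cases (by simp; ring) (fun i => ?_) i) i
    have : Fin.tail (Fin.tail (x + y)) = Fin.tail (Fin.tail x) + Fin.tail (Fin.tail y) := rfl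
    simp [this]
  map_smul' c x := by
    funext i
    refine Fin.cases (by simp) (fun i => Fin.cases (by simp; ring) (fun i => ?_) i) i
    have : Fin.tail (Fin.tail (c • x)) = c • Fin.tail (Fin.tail x) := rfl
    simp [this]

theorem tail_blockMap_pow {k : ℕ} (M : (Fin k → F) →ₗ[F] (Fin k → F)) (j : ℕ)
    (x : Fin (k + 2) → F) :
    Fin.tail (Fin.tail ((blockMap M ^ j) x)) = (M ^ j) (Fin.tail (Fin.tail x)) := by
  induction j with
  | zero => simp
  | succ j ih =>
    rw [pow_succ', pow_succ', Module.End.mul_apply, Module.End.mul_apply, ← ih]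
    simp [blockMap]

theorem blockMap_cube {k : ℕ} (h2 : (2 : F) = 0) (M : (Fin k → F) →ₗ[F] (Fin k → F))
    (x : Fin (k + 2) → F) :
    (blockMap M ^ 3) x 0 = x 0 ∧ (blockMap M ^ 3) x 1 = x 1 := by
  simp only [pow_succ, pow_zero, one_mul, Module.End.mul_apply]
  constructor <;> simp [blockMap] <;>
    first | linear_combination (x 0) * h2 | linear_combination (x 1) * h2 |
      linear_combination (x 0 + x 1) * h2

/-- The block step keeps the order and the absence of fixed vectors. -/
theorem blockMap_spec {k : ℕ} (h2 : (2 : F) = 0) {M : (Fin k → F) →ₗ[F] (Fin k → F)}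
    (hM : M ^ 21 = 1) (hfix : ∀ x, M x = x → x = 0) :
    blockMap M ^ 21 = 1 ∧ ∀ x, blockMap M x = x → x = 0 := by
  refine ⟨LinearMap.ext fun x => funext fun i => ?_, fun x hx => ?_⟩
  · have h3 : ∀ j x, ((blockMap M ^ 3) ^ j) x 0 = x 0 ∧ ((blockMap M ^ 3) ^ j) x 1 = x 1 := by
      intro j
      induction j with
      | zero => intro x; simp
      | succ j ih =>
        intro x
        rw [pow_succ, Module.End.mul_apply]
        exact ⟨(ih _).1.trans (blockMap_cube h2 M x).1, (ih _).2.trans (blockMap_cube h2 M x).2⟩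
    have h := h3 7 x
    rw [← pow_mul] at h
    refine Fin.cases h.1 (fun i => Fin.cases h.2 (fun i => ?_) i) i
    show Fin.tail (Fin.tail ((blockMap M ^ 21) x)) i = _
    rw [tail_blockMap_pow, hM]
    rfl
  · have e0 : x 1 = x 0 := congrFun hx 0
    have e1 : x 0 + x 1 = x 1 := congrFun hx 1
    have e2 : M (Fin.tail (Fin.tail x)) = Fin.tail (Fin.tail x) := by
      conv_rhs => rw [← hx]
      rfl
    have e3 := hfix _ e2
    have e4 : x 0 = 0 := by linear_combination e1
    exact funext (Fin.cases e4 (Fin.cases (e0.trans e4) (congrFun e3)))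

/-- Maps without fixed vectors whose order divides `21`. -/
theorem exists_fpf (h2 : (2 : F) = 0) : ∀ k : ℕ, k ≠ 1 →
    ∃ M : (Fin k → F) →ₗ[F] (Fin k → F), M ^ 21 = 1 ∧ ∀ x, M x = x → x = 0
  | 0, _ => ⟨1, one_pow _, fun x _ => Subsingleton.elim _ _⟩
  | 1, h => absurd rfl h
  | 3, _ => by
    refine ⟨{ toFun := fun x => ![x 1, x 2, x 0 + x 1]
              map_add' := fun x y => by funext i; fin_cases i <;> simp; ring
              map_smul' := fun c x => by funext i; fin_cases i <;> simp; ring }, ?_, fun x hx => ?_⟩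
    · have h7 : ∀ M : (Fin 3 → F) →ₗ[F] (Fin 3 → F), M ^ 7 = 1 → M ^ 21 = 1 := fun M h => by
        rw [show 21 = 7 * 3 from rfl, pow_mul, h, one_pow]
      refine h7 _ (LinearMap.ext fun x => ?_)
      have : CharP F 2 := CharTwo.of_one_ne_zero_of_two_eq_zero one_ne_zero h2
      funext i
      fin_cases i <;> simp [pow_succ, Module.End.mul_apply] <;> grind
    · have e0 : x 1 = x 0 := by simpa using congrFun hx 0
      have e1 : x 2 = x 1 := by simpa using congrFun hx 1
      have e2 : x 0 + x 1 = x 2 := by simpa using congrFun hx 2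
      funext i
      fin_cases i <;> simp <;>
        first | linear_combination e2 + e1 | linear_combination e2 + e1 + e0 | linear_combination e2 + 2 * e1 + e0
  | 2, _ => ⟨blockMap (1 : (Fin 0 → F) →ₗ[F] (Fin 0 → F)),
      blockMap_spec h2 (one_pow _) fun x _ => Subsingleton.elim _ _⟩
  | k + 4, _ => by
    obtain ⟨M, hM, hfix⟩ := exists_fpf h2 (k + 2) (by omega)
    exact ⟨blockMap M, blockMap_spec h2 hM hfix⟩

variable [Finite F]

theorem two_eq_zero_of_card (hF : Nat.card F = 2) : (2 : F) = 0 := by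
  cases nonempty_fintype F
  have := FiniteField.cast_card_eq_zero F
  rw [← Nat.card_eq_fintype_card, hF] at this
  exact_mod_cast this

/-- The twist on at least four hyperbolic planes. -/
theorem twist_two (hF : Nat.card F = 2) (k : ℕ) (hk : 2 ≤ k) :
    Twist (hypForm (k + 2) (zeroKernel F)) := by
  have h2 := two_eq_zero_of_card hF
  have hn : 3 ≤ k + 2 := by omega
  set R := hypForm (k + 2) (zeroKernel F)
  have hnd : NDPolar R := ndPolar_hypForm ndPolar_zeroKernel _
  set P : Frame R := hypFrameThree (zeroKernel F) hn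
  obtain ⟨M₀, hM₀, hfix₀⟩ := exists_fpf h2 k (by omega)
  set M := blockMap M₀
  obtain ⟨hM, hfixM⟩ := blockMap_spec h2 hM₀ hfix₀
  have hA : LinearMap.toMatrix' M ^ 21 = 1 := by
    rw [show LinearMap.toMatrix' M = LinearMap.toMatrixAlgEquiv' M from rfl, ← map_pow, hM, map_one]
  set A := Units.ofPowEqOne _ 21 hA (by norm_num)
  have hAM : ∀ x, (A : Matrix (Fin (k + 2)) (Fin (k + 2)) F) *ᵥ x = M x := fun x =>
    LinearMap.toMatrix'_mulVec M x
  set h := glOrth (zeroKernel F) A
  have h21 : h ^ 21 = 1 := by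
    rw [← map_pow, show A ^ 21 = 1 from Units.ext (by simp [A, hA]), map_one]
  have hmem : levO R 1 h ∈ siegelGroup (plane R) := by
    rw [levO_one]
    exact liftO_mem (mem_siegelGroup_of_odd hnd P (k := 21) ⟨10, rfl⟩ h21)
  have htail : ∀ j : Fin (k + 2), (j : ℕ) < 2 →
      Fin.tail (Fin.tail (Pi.single j 1 : Fin (k + 2) → F)) = 0 := fun j hj => funext fun i => by
    show (Pi.single j 1 : Fin (k + 2) → F) i.succ.succ = 0
    rw [Pi.single_apply, if_neg]
    intro e
    have := congrArg Fin.val e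
    simp at this
    omega
  have hblock : ∀ j : Fin (k + 2), (j : ℕ) < 2 → M (Pi.single j 1) =
      Fin.cons ((Pi.single j 1 : Fin (k + 2) → F) 1)
        (Fin.cons ((Pi.single j 1 : Fin (k + 2) → F) 0 + (Pi.single j 1 : Fin (k + 2) → F) 1) 0) :=
    fun j hj => by
      simp only [M, blockMap, LinearMap.coe_mk, AddHom.coe_mk, htail j hj, map_zero]
  have hha : h.1 P.e₁ = P.e₂ := by
    rw [glOrth_apply, hAM]
    refine Prod.ext (Prod.ext ?_ ?_) (Subsingleton.elim _ _)
    · show M (Pi.single ⟨0, _⟩ 1) = Pi.single ⟨1, _⟩ 1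
      rw [hblock _ (by norm_num)]
      funext i
      refine Fin.cases ?_ (fun i => Fin.cases ?_ (fun i => ?_) i) i <;>
        simp [Fin.ext_iff]
    · show (0 : Fin (k + 2) → F) ᵥ* _ = 0
      exact Matrix.zero_vecMul _
  have hhb : h.1 P.e₂ = P.e₁ + P.e₂ := by
    rw [glOrth_apply, hAM]
    refine Prod.ext (Prod.ext ?_ ?_) (Subsingleton.elim _ _)
    · show M (Pi.single ⟨1, _⟩ 1) = Pi.single ⟨0, _⟩ 1 + Pi.single ⟨1, _⟩ 1
      rw [hblock _ (by norm_num)]
      funext i
      refine Fin.cases ?_ (fun i => Fin.cases ?_ (fun i => ?_) i) i <;>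
        simp [Fin.ext_iff]
    · show (0 : Fin (k + 2) → F) ᵥ* _ = 0 + 0
      rw [Matrix.zero_vecMul, add_zero]
  refine ⟨P.e₁, P.e₂, P.pair₁.1, P.e₁e₂, 1, h, 1, 1, P.pair₁.left_ne_zero, P.e₁_indep_e₂, hmem,
    ?_, by rw [mul_one, pow_one], pow_one _, by rw [mul_one, pow_one], fun c hc => ?_⟩
  · rw [pow_one, eq_comm, ← mul_inv_eq_iff_eq_mul, siegel_conj]
    refine orth_ext fun x => ?_
    rw [siegel_apply, siegel_apply, hha, hhb, QuadraticMap.map_add R, P.pair₁.1, P.pair₂.1,
      P.e₁e₂, polar_add_right]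
    have : CharP F 2 := CharTwo.of_one_ne_zero_of_two_eq_zero one_ne_zero h2
    simp only [R]
    match_scalars <;> simp [CharTwo.neg_eq] <;> grind
  · rw [Units.val_one, one_smul, glOrth_apply, hAM] at hc
    obtain ⟨⟨x, y⟩, w⟩ := c
    simp only [Prod.mk.injEq] at hc
    have hy' : y ᵥ* (A : Matrix (Fin (k + 2)) (Fin (k + 2)) F) = y := by
      conv_lhs => rw [← hc.1.2]
      rw [Matrix.vecMul_vecMul, Units.inv_mul, Matrix.vecMul_one]
    have hsurj : Function.Surjective (fun z => M z - z) := by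
      refine (LinearMap.injective_iff_surjective (f := M - 1)).1 ?_
      rw [← LinearMap.ker_eq_bot, LinearMap.ker_eq_bot']
      intro z hz
      exact hfixM z (sub_eq_zero.1 hz)
    have hy0 : y = 0 := funext fun i => by
      obtain ⟨z, hz⟩ := hsurj (Pi.single i 1)
      have e : y ⬝ᵥ (M z - z) = 0 := by
        rw [dotProduct_sub, ← hAM, Matrix.dotProduct_mulVec, hy', sub_self]
      rw [show M z - z = Pi.single i 1 from hz, dotProduct_single, mul_one] at e
      exact e
    exact Prod.ext (Prod.ext (hfixM x hc.1.1) hy0) (Subsingleton.elim _ _)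

/-- The isometry of order fifteen on three hyperbolic planes. -/
def fifteen (F : Type*) [Field F] : Orth (hypForm 3 (zeroKernel F)) :=
  ⟨{ toFun := fun v => ((![v.1.2 2, v.1.2 1, v.1.1 0 - v.1.2 1],
        ![v.1.1 2, v.1.1 1 + v.1.2 0, v.1.2 0]), 0)
     invFun := fun v => ((![v.1.1 2 + v.1.1 1, v.1.2 1 - v.1.2 2, v.1.2 0],
        ![v.1.2 2, v.1.1 1, v.1.1 0]), 0)
     left_inv := fun v => by
       refine Prod.ext (Prod.ext (funext fun i => ?_) (funext fun i => ?_)) (Subsingleton.elim _ _)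
         <;> fin_cases i <;> simp
     right_inv := fun v => by
       refine Prod.ext (Prod.ext (funext fun i => ?_) (funext fun i => ?_)) (Subsingleton.elim _ _)
         <;> fin_cases i <;> simp
     map_add' := fun v w => by
       refine Prod.ext (Prod.ext (funext fun i => ?_) (funext fun i => ?_)) (Subsingleton.elim _ _)
         <;> fin_cases i <;> simp <;> ring
     map_smul' := fun c v => by
       refine Prod.ext (Prod.ext (funext fun i => ?_) (funext fun i => ?_)) (Subsingleton.elim _ _)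
         <;> fin_cases i <;> simp <;> ring },
    fun v => by simp [hypForm_apply, Fin.sum_univ_three]; ring⟩

theorem fifteen_apply (v : ((Fin 3 → F) × (Fin 3 → F)) × (Fin 0 → F)) :
    (fifteen F).1 v = ((![v.1.2 2, v.1.2 1, v.1.1 0 - v.1.2 1],
        ![v.1.1 2, v.1.1 1 + v.1.2 0, v.1.2 0]), 0) := rfl

theorem fifteen_four_apply (hF : Nat.card F = 2)
    (v : ((Fin 3 → F) × (Fin 3 → F)) × (Fin 0 → F)) :
    (fifteen F ^ 4).1 v =
      ((![v.1.1 0 + v.1.2 1, v.1.1 0 + v.1.1 1 + v.1.2 0 + v.1.2 1,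
          v.1.1 0 + v.1.1 1 + v.1.1 2 + v.1.2 0 + v.1.2 1],
        ![v.1.1 2 + v.1.2 0 + v.1.2 1, v.1.1 1 + v.1.1 2 + v.1.2 0 + v.1.2 1 + v.1.2 2,
          v.1.1 1 + v.1.2 0 + v.1.2 2]), 0) := by
  have : CharP F 2 := CharTwo.of_one_ne_zero_of_two_eq_zero one_ne_zero (two_eq_zero_of_card hF)
  simp only [pow_succ, pow_zero, one_mul, Classical.Quad.mul_apply, fifteen_apply]
  refine Prod.ext (Prod.ext (funext fun i => ?_) (funext fun i => ?_)) rfl <;>
    fin_cases i <;> simp [CharTwo.sub_eq_add] <;> grind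

set_option maxHeartbeats 1000000 in
/-- The twist on three hyperbolic planes. -/
theorem twist_two_three (hF : Nat.card F = 2) : Twist (hypForm 3 (zeroKernel F)) := by
  have h2 := two_eq_zero_of_card hF
  have : CharP F 2 := CharTwo.of_one_ne_zero_of_two_eq_zero one_ne_zero h2
  set R := hypForm 3 (zeroKernel F)
  set a : ((Fin 3 → F) × (Fin 3 → F)) × (Fin 0 → F) := ((![1, 1, 0], 0), 0)
  set b : ((Fin 3 → F) × (Fin 3 → F)) × (Fin 0 → F) := ((![0, 1, 1], ![0, 0, 1]), 0)
  have ha : R a = 0 := by simp [R, a, hypForm_apply]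
  have hab : polar R a b = 0 := by simp [R, a, b, polar_hypForm, Fin.sum_univ_three, polar_zeroFun]
  have h16 : fifteen F ^ (4 * 4) = fifteen F := by
    rw [pow_mul]
    refine orth_ext fun v => ?_
    simp only [pow_succ _ 3, pow_succ _ 2, pow_succ _ 1, pow_one, Classical.Quad.mul_apply,
      fifteen_apply]
    refine Prod.ext (Prod.ext (funext fun i => ?_) (funext fun i => ?_)) rfl <;>
      fin_cases i <;> simp [CharTwo.sub_eq_add] <;> grind
  have h15 : fifteen F ^ 15 = 1 := by
    have : fifteen F ^ 15 * fifteen F = 1 * fifteen F := by rw [one_mul, ← pow_succ]; exact h16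
    exact mul_right_cancel this
  refine ⟨a, b, ha, hab, 1, fifteen F, 4, 4, fun h => ?_, fun c h => ?_, ?_, ?_, h16, one_pow _,
    one_pow _, fun c hc => ?_⟩
  · simpa [a] using congrFun (congrArg (fun z => z.1.1) h) 0
  · simpa [a, b] using congrFun (congrArg (fun z => z.1.2) h) 2
  · rw [levO_one]
    exact liftO_mem (mem_siegelGroup_of_odd (ndPolar_hypForm ndPolar_zeroKernel 3)
      (hypFrameThree (zeroKernel F) le_rfl) (k := 15) ⟨7, rfl⟩ h15)
  · refine orth_ext fun v => ?_
    simp only [Classical.Quad.mul_apply, fifteen_four_apply hF, fifteen_apply, siegel_apply]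
    refine Prod.ext (Prod.ext (funext fun i => ?_) (funext fun i => ?_)) (Subsingleton.elim _ _) <;>
      fin_cases i <;>
      simp [R, a, b, polar_hypForm, hypForm_apply, Fin.sum_univ_three, CharTwo.sub_eq_add,
        polar_zeroFun, Matrix.vecHead, Matrix.vecTail] <;>
      grind
  · rw [Units.val_one, one_smul, fifteen_apply] at hc
    obtain ⟨⟨x, y⟩, w⟩ := c
    simp only [Prod.mk.injEq] at hc
    obtain ⟨⟨hx, hy⟩, -⟩ := hc
    have e0 : y 2 = x 0 := by simpa using congrFun hx 0
    have e1 : y 1 = x 1 := by simpa using congrFun hx 1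
    have e2 : x 0 - y 1 = x 2 := by simpa using congrFun hx 2
    have e3 : x 2 = y 0 := by simpa using congrFun hy 0
    have e4 : x 1 + y 0 = y 1 := by simpa using congrFun hy 1
    have e5 : y 0 = y 2 := by simpa using congrFun hy 2
    have y0 : y 0 = 0 := by linear_combination e4 + e1
    have x0 : x 0 = 0 := by linear_combination y0 - e5 - e0
    have x2 : x 2 = 0 := by linear_combination e3 + y0
    have y2 : y 2 = 0 := by linear_combination e0 + x0
    have y1 : y 1 = 0 := by linear_combination x0 - e2 - x2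
    have x1 : x 1 = 0 := by linear_combination y1 - e1
    refine Prod.ext (Prod.ext (funext fun i => ?_) (funext fun i => ?_)) (Subsingleton.elim _ _) <;>
      fin_cases i <;> assumption

end CfsgLib.MinIndexSmall
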